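import Groth.Agent.Lib.CdDual8.Lef
import Groth.Agent.Lib.EmbLift3.Vanish

/-! Complements of supports of ample divisors, and the degenerate Lefschetz condition. -/

set_option autoImplicit false
set_option linter.style.haveILetI false
set_option linter.unusedSectionVars false
set_option backward.isDefEq.respectTransparency false
set_option backward.isDefEq.respectTransparency.types false
set_option maxHeartbeats 1600000

universe u

open CategoryTheory CategoryTheory.Limits AlgebraicGeometry TopologicalSpace

noncomputable section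

namespace Groth.Agent.CdDual8

/-- A union of `m` affine opens has cohomological dimension less than `m`. -/
theorem subsingleton_HH_iSup_affine {X : Scheme.{u}} [AlgebraicGeometry.IsNoetherian X] [X.IsSeparated] (m : ℕ)
    (V : Fin m → X.Opens) (hV : ∀ j, IsAffineOpen (V j)) (U : X.Opens) (hU : U = ⨆ j, V j)
    (G : (U : Scheme.{u}).Modules) (hG : Coh.IsCoh G) (i : ℕ) (hi : m ≤ i) :
    Subsingleton (Coh.HH (U : Scheme.{u}) G i) := by
  haveI : AlgebraicGeometry.IsNoetherian (U : Scheme.{u}) := LocImm12.isNoetherian_of_isOpenImmersion U.ι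
  obtain ⟨F, α, hF, hα⟩ := KCoh4.exists_ext U.ι hG
  haveI : IsIso ((Scheme.Modules.restrictFunctor U.ι).map α) := hα
  let eD : F.restrict U.ι ≅ G :=
    asIso ((Scheme.Modules.restrictFunctor U.ι).map α) ≪≫
      asIso ((Scheme.Modules.restrictAdjunction U.ι).counit.app G)
  obtain ⟨e⟩ := CohFound.nonempty_HHon_addEquiv F U i
  haveI := hF.1
  have hs : Subsingleton (CohFound.Hc ((CohFound.abF X).obj F) i U) := by
    rw [hU]
    exact CohFound.subsingleton_hc_iSup_affine F (fun _ _ a b => a.inf b) m V hV i hi
  haveI := hs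
  haveI : Subsingleton (Coh.HH (U : Scheme.{u}) (F.restrict U.ι) i) := e.toEquiv.subsingleton
  exact AffStratVan4.subsingleton_HH_congr eD i inferInstance

/-- When the closed subset is the whole scheme, Lefschetz is trivial. -/
theorem lefCond_of_support_univ {X : Scheme.{u}} [IsReduced X] (I : X.IdealSheafData)
    (h : (I.support : Set X) = Set.univ) : Lef.LefCond X I := by
  intro U hU D _
  have hbot : ∀ J : (U : Scheme.{u}).IdealSheafData, (J.support : Set (U : Scheme.{u})) = Set.univ → J = ⊥ := by
    intro J hJ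
    refine le_bot_iff.1 ?_
    have h1 : J ≤ Scheme.IdealSheafData.vanishingIdeal ⊤ :=
      Scheme.IdealSheafData.le_support_iff_le_vanishingIdeal.1 (by
        intro x _
        show x ∈ (J.support : Set (U : Scheme.{u}))
        rw [hJ]
        exact Set.mem_univ x)
    rw [Scheme.IdealSheafData.vanishingIdeal_top, Scheme.nilradical_eq_bot] at h1
    exact h1
  have hK : ∀ n : ℕ, IsIso (ClSub.toSubscheme ((I.comap U.ι) ^ (n + 1))) := fun n => by
    have hb := hbot ((I.comap U.ι) ^ (n + 1)) (by
      rw [Scheme.IdealSheafData.support_pow_succ, Scheme.IdealSheafData.support_comap]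
      exact Set.eq_univ_of_forall fun x => by
        show U.ι x ∈ (I.support : Set X)
        rw [h]
        exact Set.mem_univ _)
    rw [hb]
    exact EmbLift3.isIso_unitToPush _
  refine ⟨fun φ ψ hφ => ?_, fun y hy => ?_⟩
  · haveI := hK 0
    exact (cancel_mono (ClSub.toSubscheme ((I.comap U.ι) ^ (0 + 1)))).1 (hφ 0)
  haveI := hK 0
  refine ⟨y 0 ≫ inv (ClSub.toSubscheme ((I.comap U.ι) ^ (0 + 1))), fun n => ?_⟩
  induction n with
  | zero => simp
  | succ n ih =>
    have hq : ClSub.toSubscheme ((I.comap U.ι) ^ (n + 1 + 1)) ≫ Lef.quotMap (Lef.pow_succ_le _ n) =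
        ClSub.toSubscheme ((I.comap U.ι) ^ (n + 1)) := ES11.toSubscheme_quotMap _
    haveI := hK n
    haveI := hK (n + 1)
    haveI : IsIso (Lef.quotMap (Lef.pow_succ_le (I.comap U.ι) n)) := by
      haveI : IsIso (ClSub.toSubscheme ((I.comap U.ι) ^ (n + 1 + 1)) ≫ Lef.quotMap (Lef.pow_succ_le _ n)) := by
        rw [hq]; infer_instance
      exact IsIso.of_isIso_comp_left (ClSub.toSubscheme ((I.comap U.ι) ^ (n + 1 + 1))) _
    rw [← cancel_mono (Lef.quotMap (Lef.pow_succ_le (I.comap U.ι) n)), Category.assoc, hq, hy n]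
    exact ih

end Groth.Agent.CdDual8
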