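import Groth.Agent.Lib.CdDual8.Kill
import Groth.Agent.Lib.IdealMul.PowKill

/-! Maps out of `I^l F` that die outside the closed subset are killed by a deeper power. -/

set_option autoImplicit false
set_option linter.style.haveILetI false
set_option linter.unusedSectionVars false
set_option backward.isDefEq.respectTransparency false
set_option backward.isDefEq.respectTransparency.types false
set_option maxHeartbeats 1000000

universe u

open CategoryTheory CategoryTheory.Limits AlgebraicGeometry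

attribute [local instance] HasDerivedCategory.standard

noncomputable section

namespace Groth.Agent.CdDual8

variable {X : Scheme.{u}}

/-- `Ext` over the open does not see the power of the ideal. -/
theorem subsingleton_ext_idl [IsLocallyNoetherian X] (U : X.Opens) (I : X.IdealSheafData)
    (hU : (U : Set X) = (I.support : Set X)ᶜ) {F Z : X.Modules} (hF : FlatMod.IsFinLocFree F)
    (hZ : Coh.IsCoh Z) (m l : ℕ)
    (hcd : ∀ G : (U : Scheme.{u}).Modules, Coh.IsCoh G → Subsingleton (Coh.HH (U : Scheme.{u}) G m)) :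
    Subsingleton (Abelian.Ext.{u} ((Scheme.Modules.restrictFunctor U.ι).obj ((Dual3.idealMul (I ^ l)).obj F))
      ((Scheme.Modules.restrictFunctor U.ι).obj Z) m) := by
  haveI := subsingleton_ext_open U hF hZ m hcd
  have hI : I.supportSetᶜ = Set.range U.ι := by rw [Scheme.Opens.range_ι]; exact hU.symm
  haveI := DelLift8.isIso_restrict_idl U.ι hI F (CohFound.isCoh_of_isFinLocFree hF).1 l
  exact (CohMop.extCongr (asIso ((Scheme.Modules.restrictFunctor U.ι).map (Dual3.idealMulι (I ^ l) F)))
    (Iso.refl ((Scheme.Modules.restrictFunctor U.ι).obj Z)) m).toEquiv.subsingleton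

/-- A map dying on the open is killed further down. -/
theorem exists_deeper_comp_eq_zero [IsNoetherian X] [∀ (U V : Scheme.{u}) (j : U ⟶ V) [IsOpenImmersion j],
      PreservesFiniteLimits (Scheme.Modules.restrictFunctor j)]
    (I : X.IdealSheafData) (U : X.Opens) (hU : (U : Set X) = (I.support : Set X)ᶜ) {F Z : X.Modules}
    (hF : Coh.IsCoh F) (hZ : Coh.IsCoh Z) (m l : ℕ)
    (c : DCoh.inD X ((Dual3.idealMul (I ^ l)).obj F) ⟶ (DCoh.inD X Z)⟦(m : ℤ)⟧)
    (hc : (DCoh.restrictD U.ι).map c = 0) :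
    ∃ M : ℕ, l ≤ M ∧ ∀ u : (Dual3.idealMul (I ^ M)).obj F ⟶ (Dual3.idealMul (I ^ l)).obj F,
      u ≫ Dual3.idealMulι (I ^ l) F = Dual3.idealMulι (I ^ M) F →
        (DerivedCategory.singleFunctor X.Modules 0).map u ≫ c = 0 := by
  haveI : CompactSpace (U : Scheme.{u}) :=
    isCompact_iff_compactSpace.1 (TopologicalSpace.NoetherianSpace.isCompact (U : Set X))
  haveI : IsNoetherian (U : Scheme.{u}) := {}
  let sg := HomologicalComplex.single X.Modules (ComplexShape.up ℤ) 0
  let F₀ : CochainComplex X.Modules ℤ := sg.obj F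
  let L : DCoh.D X := (DCoh.inD X Z)⟦(m : ℤ)⟧
  let α := DerivedCategory.singleFunctorIsoCompQ X.Modules 0
  let e₀ := HomologicalComplex.singleObjXSelf (ComplexShape.up ℤ) 0 F
  have hI : I.supportSetᶜ = Set.range U.ι := by rw [Scheme.Opens.range_ι]; exact hU.symm
  have hFc : ∀ t : ℤ, Coh.IsCoh (F₀.X t) := fun t => by
    by_cases ht : t = 0
    · subst ht
      exact CohFound.isCoh_of_iso (HomologicalComplex.singleObjXSelf (ComplexShape.up ℤ) 0 F).symm hF
    · exact DPerf.isCoh_of_isZero (HomologicalComplex.isZero_single_obj_X _ 0 F t ht)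
  have hLc : DCoh.IsCohD L := DbCohProj9.isCohD_shift (FMHyp13.isCohD_single hZ) (m : ℤ)
  haveI : DerivedCategory.IsGE L (-(m : ℤ)) :=
    DerivedCategory.TStructure.t.isGE_shift (DCoh.inD X Z) 0 (m : ℤ) (-(m : ℤ)) (by ring)
  have hvan : DCoh.VanishesOutside F₀ 0 0 := fun t ht => HomologicalComplex.isZero_single_obj_X _ 0 F t (by omega)
  have hne : ∀ (n : ℕ) (j : ℤ), j ≠ 0 → IsZero (((Dual3.deligne I n).obj F₀).X j) := fun n j hj =>
    (Dual3.idealMul (I ^ n)).map_isZero (HomologicalComplex.isZero_single_obj_X (ComplexShape.up ℤ) 0 F j hj)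
  let r : (Dual3.deligne I l).obj F₀ ⟶ sg.obj ((Dual3.idealMul (I ^ l)).obj F) :=
    HomologicalComplex.mkHomToSingle ((Dual3.idealMul (I ^ l)).map e₀.hom) fun j hj =>
      (hne l j (by rintro rfl; simp [ComplexShape.up, ComplexShape.up'] at hj)).eq_of_src _ _
  let φ : DCoh.toD X ((Dual3.deligne I l).obj F₀) ⟶ L := DerivedCategory.Q.map r ≫ α.inv.app _ ≫ c
  have hφ : (DCoh.restrictD U.ι).map φ = (DCoh.restrictD U.ι).map 0 := by
    simp only [φ, Functor.map_comp, Functor.map_zero]
    rw [hc, comp_zero, comp_zero]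
  obtain ⟨M, hM, hk⟩ := (Groth.Agent.S3664.result U X U.ι I hI F₀ 0 0 hvan hFc L hLc (-(m : ℤ))
    fun i hi => DerivedCategory.isZero_of_isGE L (-(m : ℤ)) i hi).2 l φ 0 hφ
  refine ⟨M, hM, fun u hu => ?_⟩
  obtain ⟨t, ht⟩ := DelAR8.exists_trans I F₀ (fun t => (hFc t).1) hM
  have h0 := hk t ht
  rw [comp_zero] at h0
  let s : sg.obj ((Dual3.idealMul (I ^ M)).obj F) ⟶ (Dual3.deligne I M).obj F₀ :=
    HomologicalComplex.mkHomFromSingle ((Dual3.idealMul (I ^ M)).map e₀.inv) fun j hj =>
      (hne M j (by rintro rfl; simp [ComplexShape.up, ComplexShape.up'] at hj)).eq_of_tgt _ _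
  have hsr : s ≫ t ≫ r = sg.map u := by
    refine HomologicalComplex.from_single_hom_ext ?_
    have ht0 : t.f 0 ≫ Dual3.idealMulι (I ^ l) (F₀.X 0) = Dual3.idealMulι (I ^ M) (F₀.X 0) :=
      congrArg (fun p => HomologicalComplex.Hom.f p 0) ht
    have hu' : (Dual3.idealMul (I ^ M)).map e₀.inv ≫ t.f 0 ≫ (Dual3.idealMul (I ^ l)).map e₀.hom = u := by
      rw [← cancel_mono (Dual3.idealMulι (I ^ l) F), Category.assoc, Category.assoc, Dual3.idealMul_map_ι,
        reassoc_of% ht0, Dual3.idealMul_map_ι_assoc, Iso.inv_hom_id, Category.comp_id, hu]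
    simp only [sg, HomologicalComplex.comp_f, s, r, HomologicalComplex.mkHomFromSingle_f,
      HomologicalComplex.mkHomToSingle_f, HomologicalComplex.single_map_f_self, Category.assoc]
    rw [← hu']
    simp only [Category.assoc]
  rw [← cancel_epi (α.inv.app _), comp_zero]
  have hn := α.inv.naturality u
  dsimp at hn
  rw [← Category.assoc, ← hn, Category.assoc]
  show DerivedCategory.Q.map (sg.map u) ≫ α.inv.app _ ≫ c = 0
  rw [← hsr, Functor.map_comp, Functor.map_comp, Category.assoc, Category.assoc]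
  simp only [φ] at h0
  rw [h0, comp_zero]

end Groth.Agent.CdDual8
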