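import Groth.Agent.Lib.TateZero11.LefZero
import Mathlib.RingTheory.Artinian.Module

/-! Stable images of an inverse system of finite dimensional spaces, and the twisted ideal sequences. -/

set_option autoImplicit false
set_option linter.style.haveILetI false
set_option linter.unusedSectionVars false
set_option backward.isDefEq.respectTransparency false
set_option backward.isDefEq.respectTransparency.types false
set_option maxHeartbeats 800000

universe u

open CategoryTheory CategoryTheory.Limits AlgebraicGeometry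

noncomputable section

namespace Groth.Agent.CdDual8

theorem exists_stable_lift {k : Type u} [Field k] (M : ℕ → Type u) [∀ n, AddCommGroup (M n)] [∀ n, Module k (M n)]
    [∀ n, Module.Finite k (M n)] (T : ∀ {n m : ℕ}, n ≤ m → (M m →ₗ[k] M n))
    (hid : ∀ (n : ℕ) (x : M n), T (le_refl n) x = x)
    (hT : ∀ {n m p : ℕ} (h : n ≤ m) (h' : m ≤ p) (x : M p), T h (T h' x) = T (h.trans h') x) (l : ℕ) :
    ∃ (l' : ℕ) (hl : l ≤ l'), ∀ x : M l', ∃ z : ∀ n, M n,
      (∀ n, T (Nat.le_add_right n 1) (z (n + 1)) = z n) ∧ z l = T hl x := by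
  classical
  let R : ∀ n, ℕ → Submodule k (M n) := fun n d => LinearMap.range (T (Nat.le_add_right n d))
  have hmono : ∀ n a b, a ≤ b → R n b ≤ R n a := by
    intro n a b hab
    rintro _ ⟨x, rfl⟩
    exact ⟨T (Nat.add_le_add_left hab n) x, hT _ _ x⟩
  have hstab : ∀ n, ∃ d₀, ∀ d, d₀ ≤ d → R n d₀ = R n d := fun n => by
    obtain ⟨d₀, hd₀⟩ := IsArtinian.monotone_stabilizes
      (⟨fun d => OrderDual.toDual (R n d), fun a b hab => hmono n a b hab⟩ : ℕ →o (Submodule k (M n))ᵒᵈ)
    exact ⟨d₀, fun d hd => hd₀ d hd⟩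
  choose d hd using hstab
  let W : ∀ n, Submodule k (M n) := fun n => R n (d n)
  have hW : ∀ n e (w : M n), w ∈ W n → w ∈ R n e := fun n e w hw => by
    rcases le_total (d n) e with h | h
    · rw [← hd n e h]; exact hw
    · exact hmono n e (d n) h hw
  have hstep : ∀ n (w : M n), w ∈ W n → ∃ w' : M (n + 1), w' ∈ W (n + 1) ∧ T (Nat.le_add_right n 1) w' = w := by
    intro n w hw
    obtain ⟨x, rfl⟩ := hW n (1 + d (n + 1)) w hw
    exact ⟨T (by omega : n + 1 + d (n + 1) ≤ n + (1 + d (n + 1))) x |> T (Nat.le_add_right (n + 1) (d (n + 1))),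
      ⟨_, rfl⟩, by rw [hT, hT]⟩
  choose nxt hnxt1 hnxt2 using hstep
  refine ⟨l + d l, Nat.le_add_right l (d l), fun x => ?_⟩
  let s : ∀ j, {w : M (l + j) // w ∈ W (l + j)} := fun j =>
    Nat.rec (motive := fun j => {w : M (l + j) // w ∈ W (l + j)}) ⟨T (Nat.le_add_right l (d l)) x, ⟨x, rfl⟩⟩
      (fun j w => ⟨nxt (l + j) w.1 w.2, hnxt1 _ _ _⟩) j
  have hs : ∀ j, T (Nat.le_add_right (l + j) 1) (s (j + 1)).1 = (s j).1 := fun j => hnxt2 _ _ _
  refine ⟨fun n => T (Nat.le_add_left n l) (s n).1, fun n => ?_, ?_⟩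
  · show T (Nat.le_add_right n 1) (T _ (s (n + 1)).1) = T _ (s n).1
    rw [← hs n, hT, hT]
    rfl
  · show T (Nat.le_add_left l l) (s l).1 = T (Nat.le_add_right l (d l)) x
    have key : ∀ j, T (Nat.le_add_right l j) (s j).1 = T (Nat.le_add_right l (d l)) x := by
      intro j
      induction j with
      | zero => exact hid l _
      | succ j ih =>
        rw [← ih, ← hs j, hT]
        rfl
    exact key l

variable {X : Scheme.{u}}

/-- The twisted sequence with middle term `Q` itself. -/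
def tSeq (K : X.IdealSheafData) (Q : X.Modules) : ShortComplex X.Modules :=
  ShortComplex.mk
    (M2.tensorMap (ClSub.idealModι K) (𝟙 Q) ≫ (M2.tensorComm (Coh.structureModule X) Q ≪≫ M2.tensorRUnit Q).hom)
    ((M2.tensorComm (Coh.structureModule X) Q ≪≫ M2.tensorRUnit Q).inv ≫ M2.tensorMap (ClSub.toSubscheme K) (𝟙 Q))
    (by
      rw [Category.assoc, Iso.hom_inv_id_assoc]
      exact ((ShortComplex.mk (ClSub.idealModι K) (ClSub.toSubscheme K) (kernel.condition _)).map (M2.tensorR Q)).zero)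

theorem shortExact_tSeq (K : X.IdealSheafData) {Q : X.Modules} (hQ : PicF.IsInvertible Q) : (tSeq K Q).ShortExact :=
  ShortComplex.shortExact_of_iso (S₁ := (ShortComplex.mk (ClSub.idealModι K) (ClSub.toSubscheme K)
      (kernel.condition _)).map (M2.tensorR Q))
    (ShortComplex.isoMk (Iso.refl _) (M2.tensorComm (Coh.structureModule X) Q ≪≫ M2.tensorRUnit Q) (Iso.refl _)
      ((Category.id_comp _).trans rfl)
      ((Iso.hom_inv_id_assoc _ _).trans (Category.comp_id _).symm))
    (CohFound.shortExact_tensor_invertible (M2.shortExact_idealMod (I := K)) hQ)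

/-- The first term is `K · Q`. -/
theorem exists_tSeq_iso (K : X.IdealSheafData) {Q : X.Modules} (hQ : PicF.IsInvertible Q) :
    ∃ c : (tSeq K Q).X₁ ≅ (Dual3.idealMul K).obj Q, c.hom ≫ Dual3.idealMulι K Q = (tSeq K Q).f := by
  have hS := shortExact_tSeq K hQ
  haveI := ClImmProj14.isIso_projHom K.subschemeι Q (Coh.structureModule K.subscheme)
  let e₂ := M2.tensorComm (Coh.structureModule X) Q ≪≫ M2.tensorRUnit Q
  let e₃ : CohB1.tensorMod ((Scheme.Modules.pushforward K.subschemeι).obj (Coh.structureModule K.subscheme)) Q ≅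
      (Scheme.Modules.pushforward K.subschemeι).obj ((Scheme.Modules.pullback K.subschemeι).obj Q) :=
    M2.tensorComm _ Q ≪≫ asIso (AmpleFin18.projHom K.subschemeι Q (Coh.structureModule K.subscheme)) ≪≫
      (Scheme.Modules.pushforward K.subschemeι).mapIso (M2.tensorRUnit _)
  have he : M2.tensorMap (ClSub.toSubscheme K) (𝟙 Q) ≫ e₃.hom =
      e₂.hom ≫ (Scheme.Modules.pullbackPushforwardAdjunction K.subschemeι).unit.app Q := by
    show M2.tensorMap (ClSub.toSubscheme K) (𝟙 Q) ≫ (M2.tensorComm _ Q).hom ≫ _ =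
      ((M2.tensorComm _ Q).hom ≫ (M2.tensorRUnit Q).hom) ≫ _
    rw [Category.assoc, CIProj14.unit_eq, ← Category.assoc, M2.tensorComm_natural, Category.assoc]
    rfl
  have hg : (tSeq K Q).g ≫ e₃.hom = (Scheme.Modules.pullbackPushforwardAdjunction K.subschemeι).unit.app Q := by
    show (e₂.inv ≫ _) ≫ _ = _
    rw [Category.assoc, he, Iso.inv_hom_id_assoc]
  have h1 : (tSeq K Q).f ≫ (Scheme.Modules.pullbackPushforwardAdjunction K.subschemeι).unit.app Q = 0 := by
    rw [← hg, ShortComplex.zero_assoc, zero_comp]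
  have h2 : Dual3.idealMulι K Q ≫ (tSeq K Q).g = 0 := by
    rw [← cancel_mono e₃.hom, Category.assoc, zero_comp]
    exact (congrArg (fun p => Dual3.idealMulι K Q ≫ p) hg).trans (kernel.condition _)
  haveI := hS.mono_f
  let c₁ : (tSeq K Q).X₁ ⟶ (Dual3.idealMul K).obj Q := kernel.lift _ _ h1
  let c₂ := hS.exact.lift _ h2
  have e1 : c₁ ≫ Dual3.idealMulι K Q = (tSeq K Q).f := kernel.lift_ι _ _ _
  have e2 : c₂ ≫ (tSeq K Q).f = Dual3.idealMulι K Q := hS.exact.lift_f _ h2
  exact ⟨⟨c₁, c₂, by rw [← cancel_mono (tSeq K Q).f, Category.assoc, e2, e1, Category.id_comp],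
    by rw [← cancel_mono (Dual3.idealMulι K Q), Category.assoc, e1, e2, Category.id_comp]⟩, e1⟩

end Groth.Agent.CdDual8
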