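import Groth.Agent.Lib.CdDual8.Pairing
import Groth.Agent.Lib.CdDual8.Stable
import Groth.Agent.Lib.CdDual8.KillAny
import Groth.Agent.Lib.EnriquesSeveri11.Lef
import Groth.Agent.Lib.CohFound.ProperFinite

/-! Formal surjectivity in degree zero kills `Ext^{n-1}` over the complement. -/

set_option autoImplicit false
set_option linter.style.haveILetI false
set_option linter.unusedSectionVars false
set_option backward.isDefEq.respectTransparency false
set_option backward.isDefEq.respectTransparency.types false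
set_option maxHeartbeats 500000

universe u

open CategoryTheory CategoryTheory.Limits AlgebraicGeometry

attribute [local instance] HasDerivedCategory.standard

noncomputable section

namespace Groth.Agent.CdDual8

variable {X : Scheme.{u}}

/-- The transition between twisted quotients. -/
def tTr {K K' : X.IdealSheafData} (h : K ≤ K') (Q : X.Modules) : (tSeq K Q).X₃ ⟶ (tSeq K' Q).X₃ :=
  M2.tensorMap (Lef.quotMap h) (𝟙 Q)

theorem g_tTr {K K' : X.IdealSheafData} (h : K ≤ K') (Q : X.Modules) :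
    (tSeq K Q).g ≫ tTr h Q = (tSeq K' Q).g := by
  show (_ ≫ _) ≫ M2.tensorMap _ _ = _
  rw [Category.assoc, ← M2.tensorMap_comp, Category.id_comp, ES11.toSubscheme_quotMap]
  rfl

theorem tTr_comp {K K' K'' : X.IdealSheafData} (h : K ≤ K') (h' : K' ≤ K'') {Q : X.Modules}
    (hQ : PicF.IsInvertible Q) : tTr h Q ≫ tTr h' Q = tTr (h.trans h') Q := by
  haveI := (shortExact_tSeq K hQ).epi_g
  rw [← cancel_epi (tSeq K Q).g, reassoc_of% (g_tTr h Q), g_tTr, g_tTr]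

theorem tTr_refl (K : X.IdealSheafData) {Q : X.Modules} (hQ : PicF.IsInvertible Q) :
    tTr (le_refl K) Q = 𝟙 _ := by
  haveI := (shortExact_tSeq K hQ).epi_g
  rw [← cancel_epi (tSeq K Q).g, g_tTr, Category.comp_id]

theorem pow_le_pow {I : X.IdealSheafData} {a b : ℕ} (h : a ≤ b) : I ^ b ≤ I ^ a := by
  obtain ⟨c, rfl⟩ := Nat.exists_eq_add_of_le h
  rw [pow_add]
  exact mul_le_of_le_one_right' le_top

/-- The transition from level `b` to level `a`. -/
def tDown (I : X.IdealSheafData) (Q : X.Modules) {a b : ℕ} (h : a ≤ b) :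
    (tSeq (I ^ (b + 1)) Q).X₃ ⟶ (tSeq (I ^ (a + 1)) Q).X₃ :=
  tTr (pow_le_pow (Nat.add_le_add_right h 1)) Q

theorem g_tDown (I : X.IdealSheafData) (Q : X.Modules) {a b : ℕ} (h : a ≤ b) :
    (tSeq (I ^ (b + 1)) Q).g ≫ tDown I Q h = (tSeq (I ^ (a + 1)) Q).g := g_tTr _ Q

theorem tDown_comp (I : X.IdealSheafData) {Q : X.Modules} (hQ : PicF.IsInvertible Q) {a b c : ℕ} (h : a ≤ b)
    (h' : b ≤ c) : tDown I Q h' ≫ tDown I Q h = tDown I Q (h.trans h') := tTr_comp _ _ hQ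

theorem tDown_refl (I : X.IdealSheafData) {Q : X.Modules} (hQ : PicF.IsInvertible Q) (a : ℕ) :
    tDown I Q (le_refl a) = 𝟙 _ := tTr_refl _ hQ

variable (k : Type u) [Field k] [X.Over (Spec (CommRingCat.of k))] [IsProper (X ↘ Spec (CommRingCat.of k))]
  [DCoh.HasRpush (X ↘ Spec (CommRingCat.of k))] [PreservesFiniteLimits (tilde.functor (CommRingCat.of k))]
  [∀ (U V : Scheme.{u}) (j : U ⟶ V) [IsOpenImmersion j], PreservesFiniteLimits (Scheme.Modules.restrictFunctor j)]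
  {hp : DCoh.RpushPreservesQCoh (X ↘ Spec (CommRingCat.of k))}
  {a : DCoh.DQCoh (Spec (CommRingCat.of k)) ⥤ DCoh.DQCoh X}
  (adj : DCoh.RpushQ (X ↘ Spec (CommRingCat.of k)) hp ⊣ a)
  {n : ℕ} {Z : X.Modules} (eK : (a.obj (W₁ k)).obj ≅ (DerivedCategory.singleFunctor X.Modules (-(n : ℤ))).obj Z)

/-- Classes in `Ext^n(G, Z)` as maps to the dualizing complex. -/
def toK {G : X.Modules} (e : Abelian.Ext.{u} G Z n) : (DCoh.inD X G)⟦((0 : ℕ) : ℤ)⟧ ⟶ (a.obj (W₁ k)).obj :=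
  ((shiftFunctorZero' (DCoh.D X) ((0 : ℕ) : ℤ) (by simp)).app (DCoh.inD X G)).hom ≫ e.hom ≫
    (((DerivedCategory.singleFunctors X.Modules).shiftIso (n : ℤ) (-(n : ℤ)) 0 (by ring)).app Z).hom ≫ eK.inv

theorem toK_comp {G G' : X.Modules} (φ : G' ⟶ G) (e : Abelian.Ext.{u} G Z n) :
    ((DerivedCategory.singleFunctor X.Modules 0).map φ)⟦((0 : ℕ) : ℤ)⟧' ≫ toK k eK e =
      toK k eK ((Abelian.Ext.mk₀ φ).comp e (zero_add n)) := by
  have h1 : ((Abelian.Ext.mk₀ φ).comp e (zero_add n)).hom =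
      (DerivedCategory.singleFunctor X.Modules 0).map φ ≫ e.hom := by
    rw [Abelian.Ext.comp_hom, Abelian.Ext.mk₀_hom, ShiftedHom.mk₀_comp]
  have h2 := (shiftFunctorZero' (DCoh.D X) ((0 : ℕ) : ℤ) (by simp)).hom.naturality
    ((DerivedCategory.singleFunctor X.Modules 0).map φ)
  dsimp at h2
  simp only [toK, Iso.app_hom, h1]
  erw [reassoc_of% h2]
  simp only [Category.assoc]
  rfl

include adj eK in
theorem ext_eq_zero_of_subsingleton {Q : X.Modules} (hQc : Coh.IsCoh Q) [Subsingleton (Coh.HH X Q 1)]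
    (N : ℕ) (hN : 1 + N = n) (x : Abelian.Ext.{u} Q Z N) : x = 0 := by
  refine Abelian.Ext.homEquiv.injective ?_
  show x.hom = (0 : Abelian.Ext.{u} Q Z N).hom
  rw [Abelian.Ext.zero_hom]
  let sh : (DerivedCategory.singleFunctor X.Modules (-(n : ℤ))).obj Z ≅ ((DCoh.inD X Z)⟦(N : ℤ)⟧)⟦((1 : ℕ) : ℤ)⟧ :=
    (((DerivedCategory.singleFunctors X.Modules).shiftIso (n : ℤ) (-(n : ℤ)) 0 (by ring)).app Z).symm ≪≫
      (shiftFunctorAdd' (DCoh.D X) (N : ℤ) ((1 : ℕ) : ℤ) (n : ℤ) (by omega)).app _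
  have h := hom_eq_zero_of_subsingleton k X adj 1 hQc.1 (x.hom⟦((1 : ℕ) : ℤ)⟧' ≫ sh.inv ≫ eK.inv)
  rw [Preadditive.IsIso.comp_right_eq_zero] at h
  exact (shiftFunctor (DCoh.D X) ((1 : ℕ) : ℤ)).map_injective (h.trans (Functor.map_zero _ _ _).symm)

theorem exists_lift_class [IsNoetherian X] (I : X.IdealSheafData) (U : X.Opens)
    (hU : (U : Set X) = (I.support : Set X)ᶜ) {Z : X.Modules} (hZ : Coh.IsCoh Z) {Q : X.Modules} (hQ : PicF.IsInvertible Q)
    (N : ℕ) (β : (DCoh.restrictD U.ι).obj (DCoh.inD X Q) ⟶ (DCoh.restrictD U.ι).obj ((DCoh.inD X Z)⟦(N : ℤ)⟧)) :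
    ∃ (l : ℕ) (c : DCoh.inD X (tSeq (I ^ (l + 1)) Q).X₁ ⟶ (DCoh.inD X Z)⟦(N : ℤ)⟧),
      (DCoh.restrictD U.ι).map c =
        (DCoh.restrictD U.ι).map ((DerivedCategory.singleFunctor X.Modules 0).map (tSeq (I ^ (l + 1)) Q).f) ≫ β := by
  have hQc : Coh.IsCoh Q := CohFound.isCoh_of_isFinLocFree (M2.isFinLocFree_of_isInvertible hQ)
  haveI := hQc.1
  haveI : CompactSpace (U : Scheme.{u}) :=
    isCompact_iff_compactSpace.1 (TopologicalSpace.NoetherianSpace.isCompact (U : Set X))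
  haveI : IsNoetherian (U : Scheme.{u}) := {}
  let sg := HomologicalComplex.single X.Modules (ComplexShape.up ℤ) 0
  let α := DerivedCategory.singleFunctorIsoCompQ X.Modules 0
  let sF := DerivedCategory.singleFunctor X.Modules 0
  let R := DCoh.restrictD U.ι
  let L : DCoh.D X := (DCoh.inD X Z)⟦(N : ℤ)⟧
  let F₀ : CochainComplex X.Modules ℤ := sg.obj Q
  let e₀ := HomologicalComplex.singleObjXSelf (ComplexShape.up ℤ) 0 Q
  have hI : I.supportSetᶜ = Set.range U.ι := by rw [Scheme.Opens.range_ι]; exact hU.symm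
  have hFc : ∀ t : ℤ, Coh.IsCoh (F₀.X t) := fun t => by
    by_cases ht : t = 0
    · subst ht
      exact CohFound.isCoh_of_iso (HomologicalComplex.singleObjXSelf (ComplexShape.up ℤ) 0 Q).symm hQc
    · exact DPerf.isCoh_of_isZero (HomologicalComplex.isZero_single_obj_X _ 0 Q t ht)
  have hLc : DCoh.IsCohD L := DbCohProj9.isCohD_shift (FMHyp13.isCohD_single hZ) (N : ℤ)
  haveI : DerivedCategory.IsGE L (-(N : ℤ)) :=
    DerivedCategory.TStructure.t.isGE_shift (DCoh.inD X Z) 0 (N : ℤ) (-(N : ℤ)) (by ring)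
  have hvan : DCoh.VanishesOutside F₀ 0 0 := fun t ht => HomologicalComplex.isZero_single_obj_X _ 0 Q t (by omega)
  obtain ⟨l, φ, hφ⟩ := (Groth.Agent.S3664.result U X U.ι I hI F₀ 0 0 hvan hFc L hLc (-(N : ℤ))
    fun i hi => DerivedCategory.isZero_of_isGE L (-(N : ℤ)) i hi).1 (R.map (α.inv.app Q) ≫ β)
  have hne : ∀ (j : ℤ), j ≠ 0 → IsZero (((Dual3.deligne I l).obj F₀).X j) := fun j hj =>
    (Dual3.idealMul (I ^ l)).map_isZero (HomologicalComplex.isZero_single_obj_X (ComplexShape.up ℤ) 0 Q j hj)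
  let s : sg.obj ((Dual3.idealMul (I ^ l)).obj Q) ⟶ (Dual3.deligne I l).obj F₀ :=
    HomologicalComplex.mkHomFromSingle ((Dual3.idealMul (I ^ l)).map e₀.inv) fun j hj =>
      (hne j (by rintro rfl; simp [ComplexShape.up, ComplexShape.up'] at hj)).eq_of_tgt _ _
  have hs : s ≫ Dual3.deligneι I l F₀ = sg.map (Dual3.idealMulι (I ^ l) Q) := by
    refine HomologicalComplex.from_single_hom_ext ?_
    simp only [sg, HomologicalComplex.comp_f, s, HomologicalComplex.mkHomFromSingle_f, Dual3.deligneι, Category.assoc,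
      HomologicalComplex.single_map_f_self]
    erw [Dual3.idealMul_map_ι]
    rfl
  obtain ⟨c₀, hc₀⟩ := exists_tSeq_iso (I ^ (l + 1)) hQ
  obtain ⟨u₀, hu₀⟩ := IdealMulL.exists_inclusion I (G := Q) (Nat.le_succ l)
  let c : DCoh.inD X (tSeq (I ^ (l + 1)) Q).X₁ ⟶ L :=
    sF.map (c₀.hom ≫ u₀) ≫ α.hom.app _ ≫ DerivedCategory.Q.map s ≫ φ
  have hcβ : R.map c = R.map (sF.map (tSeq (I ^ (l + 1)) Q).f) ≫ β := by
    have hn := α.hom.naturality (Dual3.idealMulι (I ^ l) Q)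
    have e1 : R.map (α.hom.app _ ≫ DerivedCategory.Q.map s ≫ φ) = R.map (sF.map (Dual3.idealMulι (I ^ l) Q)) ≫ β := by
      rw [Functor.map_comp, Functor.map_comp, ← hφ, ← Functor.map_comp_assoc, ← Functor.map_comp_assoc,
        Category.assoc, ← DerivedCategory.Q.map_comp, hs, ← Category.assoc, ← Functor.map_comp]
      congr 2
    simp only [c]
    rw [Functor.map_comp, e1, ← Category.assoc, ← Functor.map_comp, ← Functor.map_comp,
      Category.assoc c₀.hom, hu₀, hc₀]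
  exact ⟨l, c, hcβ⟩

include adj eK in
theorem mk₀_comp_ext_eq_zero {G' G T : X.Modules} (hG' : Coh.IsQCoh G') (t : G' ⟶ G) (π : T ⟶ G)
    (o : Abelian.Ext.{u} G Z n) (hπ : (Abelian.Ext.mk₀ π).comp o (zero_add n) = 0)
    (hlift : ∀ x : Coh.HH X G' 0, ∃ y : Coh.HH X T 0,
      Sheaf.H.map ((SheafOfModules.toSheaf X.ringCatSheaf).map π) 0 y =
        Sheaf.H.map ((SheafOfModules.toSheaf X.ringCatSheaf).map t) 0 x) :
    (Abelian.Ext.mk₀ t).comp o (zero_add n) = 0 := by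
  have h := comp_eq_zero_of_lift k X adj 0 hG' t π (toK k eK o)
    (by rw [toK_comp, hπ]; simp [toK, Abelian.Ext.zero_hom]) hlift
  rw [toK_comp] at h
  refine Abelian.Ext.homEquiv.injective ?_
  show _ = (0 : Abelian.Ext.{u} _ Z n).hom
  rw [Abelian.Ext.zero_hom]
  simp only [toK] at h
  rw [Preadditive.IsIso.comp_left_eq_zero, Preadditive.IsIso.comp_right_eq_zero] at h
  exact h

/-- Extending a class along a deeper sequence with the same middle term. -/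
theorem hom_comp_eq_zero_of_ext {S S' : ShortComplex X.Modules} (hS : S.ShortExact) (hS' : S'.ShortExact)
    (φ : S' ⟶ S) (N : ℕ) {n : ℕ} (hN : 1 + N = n) {Z : X.Modules} (ec : Abelian.Ext.{u} S.X₁ Z N)
    (hglob : ∀ x : Abelian.Ext.{u} S'.X₂ Z N, x = 0)
    (ho : (Abelian.Ext.mk₀ φ.τ₃).comp (hS.extClass.comp ec hN) (zero_add n) = 0) :
    (DerivedCategory.singleFunctor X.Modules 0).map φ.τ₁ ≫ ec.hom = 0 := by
  have hext : hS'.extClass.comp ((Abelian.Ext.mk₀ φ.τ₁).comp ec (zero_add N)) hN = 0 := by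
    rw [← Abelian.Ext.comp_assoc hS'.extClass (Abelian.Ext.mk₀ φ.τ₁) ec (add_zero 1) (zero_add N) (by omega),
      ShortComplex.ShortExact.extClass_naturality hS' hS φ,
      Abelian.Ext.comp_assoc (Abelian.Ext.mk₀ φ.τ₃) hS.extClass ec (zero_add 1) hN (by omega)]
    exact ho
  obtain ⟨x₂, hx₂⟩ := Abelian.Ext.contravariant_sequence_exact₁ hS' Z _ hN hext
  rw [hglob x₂, Abelian.Ext.comp_zero] at hx₂
  have h := congrArg (fun e => Abelian.Ext.hom e) hx₂.symm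
  simpa only [Abelian.Ext.comp_hom, Abelian.Ext.mk₀_hom, ShiftedHom.mk₀_comp, Abelian.Ext.zero_hom] using h

theorem isCoh_tSeq_X₃ [IsNoetherian X] (K : X.IdealSheafData) {Q : X.Modules} (hQ : Coh.IsCoh Q) :
    Coh.IsCoh (tSeq K Q).X₃ :=
  CohFound.isCoh_tensor (CohFound.isCoh_push_closedImm _ (CohFound.isCoh_of_isFinLocFree
    (M2.isFinLocFree_of_isInvertible (PicLoc.isInvertible_structureModule _)))) hQ

/-- The stable level, for an inverse system of coherent modules. -/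
theorem exists_lift_level_aux {T : ℕ → X.Modules} {Q : X.Modules} (g : ∀ m, Q ⟶ T m)
    (d : ∀ {a b : ℕ}, a ≤ b → (T b ⟶ T a)) (hrefl : ∀ m, d (le_refl m) = 𝟙 _)
    (hcomp : ∀ {a b c : ℕ} (h : a ≤ b) (h' : b ≤ c), d h' ≫ d h = d (h.trans h'))
    (hfin : ∀ m, Module.Finite k (Coh.HH X (T m) 0))
    (hfam : ∀ z : ∀ m, Coh.HH X (T m) 0,
      (∀ m, CurveCoh17.hmap k (d (Nat.le_add_right m 1)) 0 (z (m + 1)) = z m) →
        ∃ σ : Coh.HH X Q 0, ∀ m, CurveCoh17.hmap k (g m) 0 σ = z m) (l : ℕ) :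
    ∃ (l' : ℕ) (hl : l ≤ l'), ∀ x : Coh.HH X (T l') 0, ∃ y : Coh.HH X Q 0,
      CurveCoh17.hmap k (g l) 0 y = CurveCoh17.hmap k (d hl) 0 x := by
  haveI := hfin
  obtain ⟨l', hl, hlift⟩ := exists_stable_lift (fun m => Coh.HH X (T m) 0)
    (fun {a b} h => CurveCoh17.hmap k (d h) 0)
    (fun m x => by rw [hrefl]; exact CurveCoh17.hmap_id k _ 0 x)
    (fun {a b c} h h' x => by rw [← CurveCoh17.hmap_comp, hcomp]) l
  refine ⟨l', hl, fun x => ?_⟩
  obtain ⟨z, hz, hzl⟩ := hlift x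
  obtain ⟨σ, hσ⟩ := hfam z hz
  exact ⟨σ, (hσ l).trans hzl⟩

theorem finite_HH_tSeq [IsNoetherian X] (K : X.IdealSheafData) {Q : X.Modules} (hQ : PicF.IsInvertible Q) :
    Module.Finite k (Coh.HH X (tSeq K Q).X₃ 0) :=
  CohFound.finite_HH_of_isProper _
    (isCoh_tSeq_X₃ K (CohFound.isCoh_of_isFinLocFree (M2.isFinLocFree_of_isInvertible hQ))) 0

/-- The stable level. -/
theorem exists_lift_level [IsNoetherian X] (I : X.IdealSheafData) {Q : X.Modules} (hQ : PicF.IsInvertible Q)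
    (hfam : ∀ z : ∀ m, Coh.HH X (tSeq (I ^ (m + 1)) Q).X₃ 0,
      (∀ m, CurveCoh17.hmap k (tDown I Q (Nat.le_add_right m 1)) 0 (z (m + 1)) = z m) →
        ∃ σ : Coh.HH X Q 0, ∀ m, CurveCoh17.hmap k (tSeq (I ^ (m + 1)) Q).g 0 σ = z m) (l : ℕ) :
    ∃ (l' : ℕ) (hl : l ≤ l'), ∀ x : Coh.HH X (tSeq (I ^ (l' + 1)) Q).X₃ 0, ∃ y : Coh.HH X Q 0,
      CurveCoh17.hmap k (tSeq (I ^ (l + 1)) Q).g 0 y = CurveCoh17.hmap k (tDown I Q hl) 0 x :=
  exists_lift_level_aux k (T := fun m => (tSeq (I ^ (m + 1)) Q).X₃) (fun m => (tSeq (I ^ (m + 1)) Q).g)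
    (fun h => tDown I Q h) (fun m => tDown_refl I hQ m) (fun h h' => tDown_comp I hQ h h')
    (fun m => finite_HH_tSeq k (I ^ (m + 1)) hQ) hfam l

include adj eK in
theorem exists_deeper_ext_eq_zero (I : X.IdealSheafData) {Q : X.Modules} (hQ : PicF.IsInvertible Q)
    [IsNoetherian X] (N : ℕ) (hN : 1 + N = n)
    (hglob : ∀ x : Abelian.Ext.{u} Q Z N, x = 0)
    (hfam : ∀ z : ∀ m, Coh.HH X (tSeq (I ^ (m + 1)) Q).X₃ 0,
      (∀ m, CurveCoh17.hmap k (tDown I Q (Nat.le_add_right m 1)) 0 (z (m + 1)) = z m) →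
        ∃ σ : Coh.HH X Q 0, ∀ m, CurveCoh17.hmap k (tSeq (I ^ (m + 1)) Q).g 0 σ = z m)
    (l : ℕ) (c : DCoh.inD X (tSeq (I ^ (l + 1)) Q).X₁ ⟶ (DCoh.inD X Z)⟦(N : ℤ)⟧) :
    ∃ (l' : ℕ) (u : (tSeq (I ^ (l' + 1)) Q).X₁ ⟶ (tSeq (I ^ (l + 1)) Q).X₁),
      u ≫ (tSeq (I ^ (l + 1)) Q).f = (tSeq (I ^ (l' + 1)) Q).f ∧
        (DerivedCategory.singleFunctor X.Modules 0).map u ≫ c = 0 := by
  obtain ⟨ec, rfl⟩ : ∃ ec : Abelian.Ext.{u} (tSeq (I ^ (l + 1)) Q).X₁ Z N, ec.hom = c :=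
    Abelian.Ext.homEquiv.surjective c
  have hQc : Coh.IsCoh Q := CohFound.isCoh_of_isFinLocFree (M2.isFinLocFree_of_isInvertible hQ)
  obtain ⟨l', hl, hlift⟩ := exists_lift_level k I hQ hfam l
  have hS := shortExact_tSeq (I ^ (l + 1)) hQ
  have hS' := shortExact_tSeq (I ^ (l' + 1)) hQ
  have ho := mk₀_comp_ext_eq_zero k adj eK (isCoh_tSeq_X₃ (I ^ (l' + 1)) hQc).1 (tDown I Q hl)
    (tSeq (I ^ (l + 1)) Q).g (hS.extClass.comp ec hN) (hS.comp_extClass_assoc ec hN) hlift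
  haveI := hS.mono_f
  have h0 : (tSeq (I ^ (l' + 1)) Q).f ≫ (tSeq (I ^ (l + 1)) Q).g = 0 := by
    rw [← g_tDown I Q hl]
    exact (ShortComplex.zero_assoc _ _).trans zero_comp
  have hu := hS.exact.lift_f _ h0
  refine ⟨l', hS.exact.lift _ h0, hu, ?_⟩
  exact hom_comp_eq_zero_of_ext hS hS'
    { τ₁ := hS.exact.lift _ h0, τ₂ := 𝟙 Q, τ₃ := tDown I Q hl, comm₁₂ := hu.trans (Category.comp_id _).symm,
      comm₂₃ := (Category.id_comp _).trans (g_tDown I Q hl).symm } N hN ec hglob ho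

include adj eK in
theorem subsingleton_ext_of_formal [IsNoetherian X] (I : X.IdealSheafData) (U : X.Opens)
    (hU : (U : Set X) = (I.support : Set X)ᶜ) (hZ : Coh.IsCoh Z) {Q : X.Modules} (hQ : PicF.IsInvertible Q)
    [Subsingleton (Coh.HH X Q 1)] (N : ℕ) (hN : 1 + N = n)
    (hfam : ∀ z : ∀ m, Coh.HH X (tSeq (I ^ (m + 1)) Q).X₃ 0,
      (∀ m, CurveCoh17.hmap k (tDown I Q (Nat.le_add_right m 1)) 0 (z (m + 1)) = z m) →
        ∃ σ : Coh.HH X Q 0, ∀ m, CurveCoh17.hmap k (tSeq (I ^ (m + 1)) Q).g 0 σ = z m) :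
    Subsingleton (Abelian.Ext.{u} ((Scheme.Modules.restrictFunctor U.ι).obj Q)
      ((Scheme.Modules.restrictFunctor U.ι).obj Z) N) := by
  have hQc : Coh.IsCoh Q := CohFound.isCoh_of_isFinLocFree (M2.isFinLocFree_of_isInvertible hQ)
  haveI := hQc.1
  let sF := DerivedCategory.singleFunctor X.Modules 0
  let R := DCoh.restrictD U.ι
  let L : DCoh.D X := (DCoh.inD X Z)⟦(N : ℤ)⟧
  suffices key : ∀ β : R.obj (DCoh.inD X Q) ⟶ R.obj L, β = 0 by
    refine subsingleton_of_forall_eq 0 fun e => Abelian.Ext.homEquiv.injective ?_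
    show e.hom = (0 : Abelian.Ext.{u} _ _ N).hom
    rw [Abelian.Ext.zero_hom]
    let F := Scheme.Modules.restrictFunctor U.ι
    have h := key ((F.mapDerivedCategorySingleFunctor 0).hom.app Q ≫ e.hom ≫
      ((F.mapDerivedCategorySingleFunctor 0).inv.app Z)⟦(N : ℤ)⟧' ≫
        (F.mapDerivedCategory.commShiftIso (N : ℤ)).inv.app _)
    rw [Preadditive.IsIso.comp_left_eq_zero, Preadditive.IsIso.comp_right_eq_zero] at h
    exact h
  intro β
  obtain ⟨l, c, hcβ⟩ := exists_lift_class I U hU hZ hQ N β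
  obtain ⟨l', u, hu, h1⟩ := exists_deeper_ext_eq_zero k adj eK I hQ N hN
    (ext_eq_zero_of_subsingleton k adj eK hQc N hN) hfam l c
  have hI : I.supportSetᶜ = Set.range U.ι := by rw [Scheme.Opens.range_ι]; exact hU.symm
  have h2 : R.map (sF.map (tSeq (I ^ (l' + 1)) Q).f) ≫ β = 0 := by
    rw [← hu, Functor.map_comp, Functor.map_comp, Category.assoc, ← hcβ, ← Functor.map_comp, h1, Functor.map_zero]
  obtain ⟨c', hc'⟩ := exists_tSeq_iso (I ^ (l' + 1)) hQ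
  haveI : IsIso ((Scheme.Modules.restrictFunctor U.ι).map (tSeq (I ^ (l' + 1)) Q).f) := by
    rw [show (tSeq (I ^ (l' + 1)) Q).f = c'.hom ≫ Dual3.idealMulι (I ^ (l' + 1)) Q from hc'.symm, Functor.map_comp]
    haveI := DelLift8.isIso_restrict_idl U.ι hI Q hQc.1 (l' + 1)
    infer_instance
  haveI : IsIso (R.map (sF.map (tSeq (I ^ (l' + 1)) Q).f)) := by
    exact (NatIso.isIso_map_iff ((Scheme.Modules.restrictFunctor U.ι).mapDerivedCategorySingleFunctor 0) _).2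
      (by dsimp; infer_instance)
  exact (Preadditive.IsIso.comp_left_eq_zero _ _).1 h2

end Groth.Agent.CdDual8
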