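import Groth.Agent.Lib.CdDual8.Lef
import Groth.Agent.Lib.CdDual8.Cd
import Groth.Agent.Lib.NumPoly18.SurfCartier
import Groth.Agent.Lib.NumPoly18.SurfProj
import Groth.Agent.Lib.SecDiv18.Stalk

/-! Divisors and points of codimension one. -/

set_option autoImplicit false
set_option linter.style.haveILetI false
set_option linter.unusedSectionVars false
set_option backward.isDefEq.respectTransparency false
set_option backward.isDefEq.respectTransparency.types false
set_option maxHeartbeats 800000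

universe u

open CategoryTheory CategoryTheory.Limits AlgebraicGeometry TopologicalSpace

noncomputable section

namespace Groth.Agent.CdDual8

variable {k : Type u} [Field k] {X : Scheme.{u}} [X.Over (Spec (CommRingCat.of k))]
  [IsProper (X ↘ Spec (CommRingCat.of k))] [IsIntegral X]

theorem isEffCartier_of_sdim (hreg : ∀ x : X, IsRegularLocalRing (X.presheaf.stalk x)) {m : ℕ}
    (hd : topologicalKrullDim X = ((m + 1 : ℕ) : WithBot ℕ∞)) {η : X}
    (hη : VarDim.sdim (X ↘ Spec (CommRingCat.of k)) η = m) :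
    BlowUp.IsEffCartierIdeal (NumPoly18.ptIdeal η) ∧ NumPoly18.ptIdeal η ≠ ⊤ := by
  haveI : AlgebraicGeometry.IsNoetherian X := CohFound.isNoetherian_of_isProper (X ↘ Spec (CommRingCat.of k))
  refine ⟨?_, fun h => ?_⟩
  · obtain ⟨hI, z, hz, hzη⟩ := NumPoly18.isIntegral_pt η
    haveI := hI
    obtain rfl := (genericPoint_spec _).eq hz
    refine S1684.result X (NumPoly18.ptIdeal η) ?_ fun x _ => ⟨haveI := hreg x; RegLoc.isDomain _,
      haveI := hreg x; RegLoc.ufd_of_isRegularLocalRing _⟩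
    rw [hzη]
    have h := NumPoly18.ringKrullDim_stalk_of_sdim (k := k) hd η
    rw [hη] at h
    obtain ⟨U, hU, hx, -⟩ := exists_isAffineOpen_mem_and_subset (U := (⊤ : X.Opens)) (x := η) trivial
    rw [SecDiv.ringKrullDim_stalk_eq_height hU hx] at h ⊢
    generalize (hU.primeIdealOf ⟨η, hx⟩).asIdeal.height = a at h ⊢
    have h' : a + (m : ℕ∞) = ((m + 1 : ℕ) : ℕ∞) := WithBot.coe_injective (by exact h)
    cases a using ENat.recTopCoe with
    | top => rw [top_add] at h'; exact absurd h'.symm (ENat.natCast_ne_top _)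
    | coe a =>
      have : a + m = m + 1 := by exact_mod_cast h'
      obtain rfl : a = 1 := by omega
      rfl
  · have hs : η ∈ ((NumPoly18.ptIdeal η).support : Set X) := by
      rw [← Scheme.IdealSheafData.range_subschemeι, NumPoly18.range_ptι]
      exact subset_closure rfl
    rw [h, Scheme.IdealSheafData.support_top] at hs
    exact hs

theorem exists_sdim_eq {m : ℕ} (hd : topologicalKrullDim X = ((m + 1 : ℕ) : WithBot ℕ∞)) :
    ∃ η : X, VarDim.sdim (X ↘ Spec (CommRingCat.of k)) η = m := by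
  let f := X ↘ Spec (CommRingCat.of k)
  have hg : VarDim.sdim f (genericPoint X) = m + 1 := by
    have h := (VarDim.dim_eq_sdim_genericPoint f).symm.trans hd
    exact_mod_cast h
  have h := VarDim.height_eq_sdim f (genericPoint X)
  rw [hg] at h
  obtain ⟨y, -, hy⟩ := (Order.coe_lt_height_iff (n := m) (h ▸ ENat.natCast_lt_top _)).1
    (h ▸ (by exact_mod_cast Nat.lt_succ_self m))
  exact ⟨y, by exact_mod_cast (VarDim.height_eq_sdim f y).symm.trans hy⟩

theorem exists_sdim_mem_support {m : ℕ} (hd : topologicalKrullDim X = ((m + 1 : ℕ) : WithBot ℕ∞))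
    {D : X.IdealSheafData} (hD : BlowUp.IsEffCartierIdeal D) (hne : (D.support : Set X).Nonempty) :
    ∃ x ∈ (D.support : Set X), VarDim.sdim (X ↘ Spec (CommRingCat.of k)) x = m := by
  let f := X ↘ Spec (CommRingCat.of k)
  haveI : IsLocallyNoetherian X := LocallyOfFiniteType.isLocallyNoetherian f
  have hbdd : ∀ y : X, VarDim.sdim f y ≤ m + 1 := fun y => by
    have h1 := VarDim.dim_eq_iSup_sdim f
    rw [hd] at h1
    have h2 : ((VarDim.sdim f y : ℕ) : WithBot ℕ∞) ≤ ((m + 1 : ℕ) : WithBot ℕ∞) :=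
      h1 ▸ le_iSup (fun y : X => ((VarDim.sdim f y : ℕ) : WithBot ℕ∞)) y
    exact_mod_cast h2
  obtain ⟨x, hx, hmax⟩ : ∃ x ∈ (D.support : Set X), ∀ y ∈ (D.support : Set X),
      VarDim.sdim f y ≤ VarDim.sdim f x := by
    have hb : BddAbove (VarDim.sdim f '' (D.support : Set X)) := ⟨m + 1, by rintro _ ⟨y, -, rfl⟩; exact hbdd y⟩
    obtain ⟨x, hx, e⟩ := Nat.sSup_mem (hne.image _) hb
    exact ⟨x, hx, fun y hy => e ▸ le_csSup hb ⟨y, hy, rfl⟩⟩
  have hgen : ∀ y ∈ (D.support : Set X), y ⤳ x → y = x := fun y hy hyx => by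
    by_contra hne'
    exact (hmax y hy).not_gt (VarDim.sdim_lt_of_specializes f hyx hne')
  obtain ⟨U, hxU, g, -, h1, h2, h3⟩ := SecDiv.exists_stalk_eqn hD hx
  have h := NumPoly18.ringKrullDim_stalk_of_sdim (k := k) hd x
  rw [SecDiv.ringKrullDim_eq_one h1 h2 (h3 hgen)] at h
  have h' : 1 + VarDim.sdim f x = m + 1 := by exact_mod_cast h
  have h'' : VarDim.sdim f x = m := by omega
  exact ⟨x, hx, h''⟩

theorem nontrivial_HH_zero {U : Scheme.{u}} [U.Over (Spec (CommRingCat.of k))] [IsIntegral U] :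
    ¬ Subsingleton (Coh.HH U (Coh.structureModule U) 0) := fun h => by
  have h0 : (𝟙 (Coh.structureModule U)) = 0 := (Abelian.Ext.mk₀_bijective _ _).1
    ((BC8.extHH k U (Coh.structureModule U) 0).injective (@Subsingleton.elim _ h _ _))
  have h1 := congrArg (fun φ : Coh.structureModule U ⟶ Coh.structureModule U =>
    φ.app ⊤ (M1.one ⊤)) h0
  haveI : Nontrivial Γ(U, ⊤) := inferInstance
  exact one_ne_zero (α := Γ(U, ⊤)) h1

omit [X.Over (Spec (CommRingCat.of k))] in
theorem support_nonempty_of_lefCond {Y : Scheme.{u}} [IsIntegral Y] (I : Y.IdealSheafData)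
    (hLef : Lef.LefCond Y I) : (I.support : Set Y).Nonempty := by
  by_contra he
  rw [Set.not_nonempty_iff_eq_empty] at he
  haveI : Nonempty (⊤ : Y.Opens) := ⟨⟨genericPoint Y, trivial⟩⟩
  haveI : IsIntegral ((⊤ : Y.Opens) : Scheme.{u}) := inferInstance
  let T := Coh.structureModule ((⊤ : Y.Opens) : Scheme.{u})
  have h0 : (𝟙 T) = 0 := by
    refine (hLef ⊤ (fun _ _ => trivial) T (M2.isFinLocFree_of_isInvertible
      (PicLoc.isInvertible_structureModule _))).1 _ _ fun n => ?_
    refine (Snapper.isZero_of_support_empty ?_).eq_of_tgt _ _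
    rw [NumPoly18.support_quotMod, Scheme.IdealSheafData.support_pow_succ, Scheme.IdealSheafData.support_comap]
    refine Set.eq_empty_of_forall_notMem fun x hx => ?_
    have hx' : (⊤ : Y.Opens).ι x ∈ (I.support : Set Y) := hx
    rw [he] at hx'
    exact hx'
  have h1 := congrArg (fun φ : T ⟶ T => φ.app ⊤ (M1.one ⊤)) h0
  haveI : Nontrivial Γ(((⊤ : Y.Opens) : Scheme.{u}), ⊤) := inferInstance
  exact one_ne_zero (α := Γ(((⊤ : Y.Opens) : Scheme.{u}), ⊤)) h1

end Groth.Agent.CdDual8
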