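import Groth.Agent.Lib.PtSky9.Field
import Groth.Agent.Lib.BC8.TopDualApps

/-! Over a field the cohomology of a complex is detected by maps to the field; duality is nondegenerate. -/

set_option autoImplicit false
set_option linter.style.haveILetI false
set_option linter.unusedSectionVars false
set_option backward.isDefEq.respectTransparency false
set_option backward.isDefEq.respectTransparency.types false
set_option maxHeartbeats 1000000

universe u

open CategoryTheory CategoryTheory.Limits AlgebraicGeometry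

attribute [local instance] HasDerivedCategory.standard

noncomputable section

namespace Groth.Agent.CdDual8

variable {k : Type u} [Field k]

/-- A nonzero class is seen by a functional. -/
theorem exists_functional {M : Dual.D k} (y : DGen9.pt (R := k) 0 ⟶ M) (hy : y ≠ 0) :
    ∃ h : M ⟶ DGen9.pt (R := k) 0, y ≫ h ≠ 0 := by
  obtain ⟨F, ⟨eF⟩⟩ : ∃ F : DRing.Cx k, Nonempty (DRing.toD F ≅ M) :=
    ⟨_, ⟨(DerivedCategory.Q (C := ModuleCat.{u} k)).objObjPreimageIso M⟩⟩
  obtain ⟨e₀⟩ := DBaseChange.nonempty_zeroD_iso F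
  let G := DBaseChange.zeroD F
  let e : DRing.toD G ≅ M := e₀ ≪≫ eF
  let o : DGen9.pt (R := k) 0 ≅ DRing.toD (PtSky9.oneC k 0) :=
    (DerivedCategory.singleFunctorIsoCompQ (ModuleCat.{u} k) 0).app (ModuleCat.of k k)
  obtain ⟨f, hf⟩ := DMod.exists_map_eq (o.inv ≫ y ≫ e.inv)
  have hf0 : f ≠ 0 := fun h => hy (by
    rw [h, Functor.map_zero] at hf
    rw [← cancel_epi o.inv, ← cancel_mono e.inv, Category.assoc, ← hf, comp_zero, zero_comp])
  let σ : ModuleCat.of k k ⟶ G.X 0 :=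
    (HomologicalComplex.singleObjXSelf (ComplexShape.up ℤ) 0 (ModuleCat.of k k)).inv ≫ f.f 0
  have hσ : σ ≠ 0 := fun h => hf0 (HomologicalComplex.from_single_hom_ext (by
    rw [← cancel_epi (HomologicalComplex.singleObjXSelf (ComplexShape.up ℤ) 0 (ModuleCat.of k k)).inv]
    simpa [σ] using h))
  have hx : σ.hom 1 ≠ 0 := fun h => hσ (ModuleCat.hom_ext (LinearMap.ext_ring (by simpa using h)))
  obtain ⟨g, hg⟩ := (LinearMap.toSpanSingleton k (G.X 0) (σ.hom 1)).exists_leftInverse_of_injective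
    (LinearMap.ker_toSpanSingleton (M := ↥(G.X 0)) k hx)
  let ρ : G.X 0 ⟶ ModuleCat.of k k := ModuleCat.ofHom g
  let r : G ⟶ PtSky9.oneC k 0 := HomologicalComplex.mkHomToSingle ρ fun i _ => by
    rw [DBaseChange.zeroD_d, zero_comp]
  have hσρ : σ ≫ ρ = 𝟙 _ := by
    refine ModuleCat.hom_ext (LinearMap.ext_ring ?_)
    have h1 := LinearMap.congr_fun hg 1
    simpa [ρ] using h1
  have hfr : f ≫ r = 𝟙 _ := by
    refine HomologicalComplex.from_single_hom_ext ?_
    rw [← cancel_epi (HomologicalComplex.singleObjXSelf (ComplexShape.up ℤ) 0 (ModuleCat.of k k)).inv]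
    simp only [HomologicalComplex.comp_f, r, HomologicalComplex.mkHomToSingle_f, HomologicalComplex.id_f]
    rw [← Category.assoc, ← Category.assoc, show _ ≫ f.f 0 = σ from rfl, hσρ]
    simp
  refine ⟨e.inv ≫ DerivedCategory.Q.map r ≫ o.inv, fun h => hy ?_⟩
  have h2 : y ≫ e.inv ≫ DerivedCategory.Q.map r = o.hom := by
    rw [← cancel_epi o.inv, Iso.inv_hom_id]
    rw [← Category.assoc y, ← Category.assoc, ← hf, ← Functor.map_comp, hfr]
    exact DerivedCategory.Q.map_id _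
  rw [reassoc_of% h2, Iso.hom_inv_id] at h
  rw [← Category.id_comp y, h, zero_comp]

variable (k) (X : Scheme.{u}) [X.Over (Spec (CommRingCat.of k))]
  [DCoh.HasRpush (X ↘ Spec (CommRingCat.of k))]
  {hp : DCoh.RpushPreservesQCoh (X ↘ Spec (CommRingCat.of k))}
  {a : DCoh.DQCoh (Spec (CommRingCat.of k)) ⥤ DCoh.DQCoh X}
  (adj : DCoh.RpushQ (X ↘ Spec (CommRingCat.of k)) hp ⊣ a)
  [PreservesFiniteLimits (tilde.functor (CommRingCat.of k))]

/-- The dual of the field, on the point. -/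
abbrev W₁ : DCoh.DQCoh (Spec (CommRingCat.of k)) := (FMAdj9.tildeQ (CommRingCat.of k)).obj (Dual.inD k k)

include adj in
/-- Classes killed by all maps to the dualizing complex vanish. -/
theorem exists_class_all (i : ℕ) {ι : Type} {F : X.Modules} {F' : ι → X.Modules} (hF : Coh.IsQCoh F)
    (φ : ∀ m, F' m ⟶ F) (x : Coh.HH X F i)
    (hy' : ∀ m, ∃ y : Coh.HH X (F' m) i, Sheaf.H.map ((SheafOfModules.toSheaf X.ringCatSheaf).map (φ m)) i y = x)
    (hx : x ≠ 0) :
    ∃ c : (DCoh.inD X F)⟦(i : ℤ)⟧ ⟶ (a.obj (W₁ k)).obj, ∀ m,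
      ((DerivedCategory.singleFunctor X.Modules 0).map (φ m))⟦(i : ℤ)⟧' ≫ c ≠ 0 := by
  obtain ⟨v, hv⟩ := BC8.exists_base_hom k X i
  have hFq : DCoh.IsQCohD ((DCoh.inD X F)⟦(i : ℤ)⟧) :=
    ObjectProperty.le_shift DCoh.IsQCohD (i : ℤ) _ (BC8.isQCohD_inD' hF)
  obtain ⟨M, ⟨eM⟩⟩ := DQC.exists_iso_of_isQCohD (R := CommRingCat.of k) _ (hp _ hFq)
  obtain ⟨g0, hg0⟩ := (DQC.bijective_map (DGen9.pt (R := k) 0) M).2 (v F x ≫ eM.inv)
  simp only at hg0
  have hg : g0 ≠ 0 := fun h => hx ((v F).injective (by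
    rw [map_zero, ← cancel_mono eM.inv, zero_comp, ← hg0, h, Functor.map_zero]))
  obtain ⟨h, hh⟩ := exists_functional g0 hg
  let w : (DCoh.Rpush (X ↘ Spec (CommRingCat.of k))).obj ((DCoh.inD X F)⟦(i : ℤ)⟧) ⟶ (W₁ k).obj :=
    eM.inv ≫ (DPerf.tildeDD (CommRingCat.of k)).map h
  let G₀ : DCoh.DQCoh X := ⟨_, hFq⟩
  obtain ⟨u, hu⟩ := (adj.homEquiv G₀ (W₁ k)).symm.surjective (ObjectProperty.homMk w)
  rw [Adjunction.homEquiv_counit] at hu
  have hu' : (DCoh.Rpush (X ↘ Spec (CommRingCat.of k))).map u.hom ≫ (adj.counit.app (W₁ k)).hom = w :=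
    congrArg (fun p => p.hom) hu
  refine ⟨u.hom, fun m hc => hh ?_⟩
  obtain ⟨y, hy⟩ := hy' m
  obtain ⟨_, _⟩ := DPush.exists_commShift_isTriangulated (X ↘ Spec (CommRingCat.of k))
  haveI : (DCoh.Rpush (X ↘ Spec (CommRingCat.of k))).Additive := inferInstance
  have h1 : v F x ≫ w = 0 := by
    rw [← hu', ← hy, hv, Category.assoc, ← Functor.map_comp_assoc, hc]
    simp
  refine (DQC.bijective_map (R := CommRingCat.of k) _ _).1 ?_
  show (DPerf.tildeDD (CommRingCat.of k)).map (g0 ≫ h) = (DPerf.tildeDD (CommRingCat.of k)).map 0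
  rw [Functor.map_comp, hg0, Functor.map_zero, Category.assoc]
  exact h1

end Groth.Agent.CdDual8
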