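import Groth.Agent.Lib.DelLift8.Core
import Groth.Agent.S3664
import Groth.Agent.Lib.CohMop.ExtAdjDual
import Groth.Agent.Lib.CohMop.HomCoh
import Groth.Agent.Lib.TensorMod.Invertible
import Groth.Agent.Lib.DPerf.Noeth
import Groth.Agent.Lib.DbCohProj9.Main
import Groth.Agent.Lib.FMHyp13.HyperSupp

/-! A map to a shifted sheaf dying outside a closed subset is killed by a power of the ideal. -/

set_option autoImplicit false
set_option linter.style.haveILetI false
set_option linter.unusedSectionVars false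
set_option backward.isDefEq.respectTransparency false
set_option backward.isDefEq.respectTransparency.types false
set_option maxHeartbeats 1000000

universe u

open CategoryTheory CategoryTheory.Limits AlgebraicGeometry

attribute [local instance] HasDerivedCategory.standard

noncomputable section

namespace Groth.Agent.CdDual8

variable {X : Scheme.{u}}

/-- `Ext` out of a finite locally free module vanishes over an open where coherent cohomology does. -/
theorem subsingleton_ext_open [IsLocallyNoetherian X] (U : X.Opens) {F Z : X.Modules} (hF : FlatMod.IsFinLocFree F)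
    (hZ : Coh.IsCoh Z) (m : ℕ)
    (hcd : ∀ G : (U : Scheme.{u}).Modules, Coh.IsCoh G → Subsingleton (Coh.HH (U : Scheme.{u}) G m)) :
    Subsingleton (Abelian.Ext.{u} ((Scheme.Modules.restrictFunctor U.ι).obj F)
      ((Scheme.Modules.restrictFunctor U.ι).obj Z) m) := by
  have hF' : FlatMod.IsFinLocFree ((Scheme.Modules.restrictFunctor U.ι).obj F) := M2.isFinLocFree_restrict U.ι hF
  obtain ⟨e⟩ := CohMop.nonempty_ext_addEquiv_HH hF' ((Scheme.Modules.restrictFunctor U.ι).obj Z) m
  haveI := hcd _ (CohMop.homCoh_of_isCoh (CohFound.isCoh_of_isFinLocFree hF') _ (DPerf.isCoh_restrict hZ U.ι))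
  exact e.toEquiv.subsingleton

theorem map_eq_zero_of_ext [∀ (U V : Scheme.{u}) (j : U ⟶ V) [IsOpenImmersion j],
      PreservesFiniteLimits (Scheme.Modules.restrictFunctor j)]
    (U : X.Opens) {F Z : X.Modules} (m : ℕ)
    [Subsingleton (Abelian.Ext.{u} ((Scheme.Modules.restrictFunctor U.ι).obj F)
      ((Scheme.Modules.restrictFunctor U.ι).obj Z) m)]
    (c : DCoh.inD X F ⟶ (DCoh.inD X Z)⟦(m : ℤ)⟧) : (DCoh.restrictD U.ι).map c = 0 := by
  obtain ⟨e, rfl⟩ : ∃ e : Abelian.Ext.{u} F Z m, e.hom = c := Abelian.Ext.homEquiv.surjective c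
  have h := Abelian.Ext.mapExactFunctor_hom (Scheme.Modules.restrictFunctor U.ι) e
  rw [Subsingleton.elim (Abelian.Ext.mapExactFunctor (Scheme.Modules.restrictFunctor U.ι) e) 0,
    Abelian.Ext.zero_hom] at h
  have h' := h.symm
  rw [Preadditive.IsIso.comp_left_eq_zero, Preadditive.IsIso.comp_right_eq_zero] at h'
  exact (Preadditive.IsIso.comp_right_eq_zero _ _).1 h'

/-- The map is killed by some power. -/
theorem exists_pow_comp_eq_zero [IsNoetherian X] [∀ (U V : Scheme.{u}) (j : U ⟶ V) [IsOpenImmersion j],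
      PreservesFiniteLimits (Scheme.Modules.restrictFunctor j)]
    (I : X.IdealSheafData) (U : X.Opens) (hU : (U : Set X) = (I.support : Set X)ᶜ) {F Z : X.Modules}
    (hF : Coh.IsCoh F) (hZ : Coh.IsCoh Z) (m : ℕ) (c : DCoh.inD X F ⟶ (DCoh.inD X Z)⟦(m : ℤ)⟧)
    (hc : (DCoh.restrictD U.ι).map c = 0) :
    ∃ l : ℕ, (DerivedCategory.singleFunctor X.Modules 0).map (Dual3.idealMulι (I ^ (l + 1)) F) ≫ c = 0 := by
  haveI : CompactSpace (U : Scheme.{u}) := isCompact_iff_compactSpace.1 (TopologicalSpace.NoetherianSpace.isCompact (U : Set X))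
  haveI : IsNoetherian (U : Scheme.{u}) := {}
  let F₀ : CochainComplex X.Modules ℤ := (HomologicalComplex.single X.Modules (ComplexShape.up ℤ) 0).obj F
  let L : DCoh.D X := (DCoh.inD X Z)⟦(m : ℤ)⟧
  let q : DCoh.toD X F₀ ≅ DCoh.inD X F := ((DerivedCategory.singleFunctorIsoCompQ X.Modules 0).app F).symm
  have hI : I.supportSetᶜ = Set.range U.ι := by rw [Scheme.Opens.range_ι]; exact hU.symm
  have hFc : ∀ t : ℤ, Coh.IsCoh (F₀.X t) := fun t => by
    by_cases ht : t = 0
    · subst ht
      exact CohFound.isCoh_of_iso (HomologicalComplex.singleObjXSelf (ComplexShape.up ℤ) 0 F).symm hF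
    · exact DPerf.isCoh_of_isZero (HomologicalComplex.isZero_single_obj_X _ 0 F t ht)
  have hLc : DCoh.IsCohD L := DbCohProj9.isCohD_shift (FMHyp13.isCohD_single hZ) (m : ℤ)
  haveI : DerivedCategory.IsGE L (-(m : ℤ)) :=
    DerivedCategory.TStructure.t.isGE_shift (DCoh.inD X Z) 0 (m : ℤ) (-(m : ℤ)) (by ring)
  have hvan : DCoh.VanishesOutside F₀ 0 0 := fun t ht => HomologicalComplex.isZero_single_obj_X _ 0 F t (by omega)
  let φ : DCoh.toD X ((Dual3.deligne I 1).obj F₀) ⟶ L := DerivedCategory.Q.map (Dual3.deligneι I 1 F₀) ≫ q.hom ≫ c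
  have hφ : (DCoh.restrictD U.ι).map φ = (DCoh.restrictD U.ι).map 0 := by
    simp only [φ, Functor.map_comp, Functor.map_zero]
    rw [hc, comp_zero, comp_zero]
  obtain ⟨M, hM, hk⟩ := (Groth.Agent.S3664.result U X U.ι I hI F₀ 0 0 hvan hFc L hLc (-(m : ℤ))
    fun i hi => DerivedCategory.isZero_of_isGE L (-(m : ℤ)) i hi).2 1 φ 0 hφ
  obtain ⟨l, rfl⟩ : ∃ l, M = l + 1 := ⟨M - 1, by omega⟩
  obtain ⟨t, ht⟩ := DelAR8.exists_trans I F₀ (fun t => (hFc t).1) hM
  have h0 := hk t ht
  rw [comp_zero] at h0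
  simp only [φ] at h0
  rw [← Functor.map_comp_assoc, ht] at h0
  let G := Dual3.idealMul (I ^ (l + 1))
  let e₀ := HomologicalComplex.singleObjXSelf (ComplexShape.up ℤ) 0 F
  let s : (HomologicalComplex.single X.Modules (ComplexShape.up ℤ) 0).obj (G.obj F) ⟶ (Dual3.deligne I (l + 1)).obj F₀ :=
    HomologicalComplex.mkHomFromSingle (G.map e₀.inv) fun j hj => by
      exact (G.map_isZero (HomologicalComplex.isZero_single_obj_X (ComplexShape.up ℤ) 0 F j (by
          rintro rfl
          simp [ComplexShape.up, ComplexShape.up'] at hj))).eq_of_tgt _ _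
  have hs : s ≫ Dual3.deligneι I (l + 1) F₀ =
      (HomologicalComplex.single X.Modules (ComplexShape.up ℤ) 0).map (Dual3.idealMulι (I ^ (l + 1)) F) := by
    refine HomologicalComplex.from_single_hom_ext ?_
    simp only [HomologicalComplex.comp_f, s, HomologicalComplex.mkHomFromSingle_f, Dual3.deligneι, Category.assoc,
      HomologicalComplex.single_map_f_self]
    erw [Dual3.idealMul_map_ι]
    rfl
  refine ⟨l, ?_⟩
  let α := DerivedCategory.singleFunctorIsoCompQ X.Modules 0
  have hn := α.hom.naturality (Dual3.idealMulι (I ^ (l + 1)) F)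
  rw [← cancel_epi (α.inv.app _)]
  have h1 : α.inv.app _ ≫ (DerivedCategory.singleFunctor X.Modules 0).map (Dual3.idealMulι (I ^ (l + 1)) F) ≫ c =
      DerivedCategory.Q.map ((HomologicalComplex.single X.Modules (ComplexShape.up ℤ) 0).map
        (Dual3.idealMulι (I ^ (l + 1)) F)) ≫ q.hom ≫ c := by
    have hn' := α.inv.naturality (Dual3.idealMulι (I ^ (l + 1)) F)
    dsimp at hn'
    simp only [q, Iso.symm_hom, Iso.app_inv]
    rw [← Category.assoc, ← hn', Category.assoc]
    rfl
  erw [h1]
  rw [comp_zero, ← hs, Functor.map_comp, Category.assoc, h0, comp_zero]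

end Groth.Agent.CdDual8
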