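import Groth.Agent.Lib.CdDual8.Van
import Groth.Agent.Lib.TateZero11.LefZero
import Groth.Agent.Lib.BC8.LichIff
import Groth.Agent.Lib.RamSam27.Normal
import Groth.Agent.Lib.AmpleFin18.PushEuler
import Groth.Agent.Lib.AffStratVan4.Support

/-! The Lefschetz condition from the cohomological dimension of the complement. -/

set_option autoImplicit false
set_option linter.style.haveILetI false
set_option linter.unusedSectionVars false
set_option backward.isDefEq.respectTransparency false
set_option backward.isDefEq.respectTransparency.types false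
set_option maxHeartbeats 1600000

universe u

open CategoryTheory CategoryTheory.Limits AlgebraicGeometry TopologicalSpace

noncomputable section

namespace Groth.Agent.CdDual8

variable (k : Type u) [Field k] (X : Scheme.{u}) [X.Over (Spec (CommRingCat.of k))]
  [IsProper (X ↘ Spec (CommRingCat.of k))]

/-- A closed subset inside the open has dimension at most its cohomological dimension. -/
theorem dim_closure_le_of_cd (U : X.Opens) (r : ℕ)
    (hcd : ∀ G : (U : Scheme.{u}).Modules, Coh.IsCoh G → ∀ i : ℕ, r < i →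
      Subsingleton (Coh.HH (U : Scheme.{u}) G i)) {z : X} (hz : closure ({z} : Set X) ⊆ (U : Set X)) :
    VarDim.sdim (X ↘ Spec (CommRingCat.of k)) z ≤ r := by
  haveI : AlgebraicGeometry.IsNoetherian X := CohFound.isNoetherian_of_isProper (X ↘ Spec (CommRingCat.of k))
  let J := Scheme.IdealSheafData.vanishingIdeal (⟨closure ({z} : Set X), isClosed_closure⟩ : TopologicalSpace.Closeds X)
  have hrange : Set.range J.subschemeι = closure ({z} : Set X) := by
    rw [Scheme.IdealSheafData.range_subschemeι, Scheme.IdealSheafData.coe_support_vanishingIdeal]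
    rfl
  let e : J.subscheme ≃ₜ closure ({z} : Set X) :=
    J.subschemeι.isClosedEmbedding.isEmbedding.toHomeomorph.trans (Homeomorph.setCongr hrange)
  haveI : IrreducibleSpace J.subscheme := by
    haveI : IrreducibleSpace (closure ({z} : Set X)) :=
      Subtype.irreducibleSpace isIrreducible_singleton.closure
    exact e.symm.surjective.irreducibleSpace e.symm.continuous
  letI : J.subscheme.Over (Spec (CommRingCat.of k)) := ⟨J.subschemeι ≫ (X ↘ Spec (CommRingCat.of k))⟩
  haveI : IsProper (J.subscheme ↘ Spec (CommRingCat.of k)) :=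
    inferInstanceAs (IsProper (J.subschemeι ≫ (X ↘ Spec (CommRingCat.of k))))
  have hd : topologicalKrullDim J.subscheme =
      (VarDim.sdim (X ↘ Spec (CommRingCat.of k)) z : WithBot ℕ∞) := by
    rw [IsHomeomorph.topologicalKrullDim_eq _ e.isHomeomorph, VarDim.dim_closure_singleton (X ↘ Spec (CommRingCat.of k))]
  obtain ⟨ω, hω, hnt⟩ := BC8.exists_nontrivial_HH_top k J.subscheme _ hd
  by_contra hlt
  push Not at hlt
  have hsub : Set.range J.subschemeι ⊆ Set.range U.ι := by rw [hrange, Scheme.Opens.range_ι]; exact hz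
  let g : J.subscheme ⟶ (U : Scheme.{u}) := IsOpenImmersion.lift U.ι J.subschemeι hsub
  have hg : g ≫ U.ι = J.subschemeι := IsOpenImmersion.lift_fac _ _ _
  haveI : IsClosedImmersion (g ≫ U.ι) := by rw [hg]; infer_instance
  haveI : IsClosedImmersion g := IsClosedImmersion.of_comp g U.ι
  haveI : IsLocallyNoetherian (U : Scheme.{u}) := inferInstance
  letI : (U : Scheme.{u}).Over (Spec (CommRingCat.of k)) := ⟨U.ι ≫ (X ↘ Spec (CommRingCat.of k))⟩
  obtain ⟨E⟩ := AmpleFin18.nonempty_HH_push (k := k) g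
    (show g ≫ (U.ι ≫ (X ↘ Spec (CommRingCat.of k))) = J.subschemeι ≫ (X ↘ Spec (CommRingCat.of k)) by
      rw [← Category.assoc, hg]) ω hω.1 (VarDim.sdim (X ↘ Spec (CommRingCat.of k)) z)
  haveI := hcd _ (CohFound.isCoh_push_closedImm g hω) _ hlt
  exact not_nontrivial_iff_subsingleton.2 E.symm.toEquiv.subsingleton hnt

include k in
/-- Formal bijectivity out of every coherent module. -/
theorem homToFormal_of_cd [IsIntegral X] (hreg : ∀ x : X, IsRegularLocalRing (X.presheaf.stalk x))
    (n : ℕ) (hdim : topologicalKrullDim X = n) (L : X.Modules) (hL : CohB1.IsAmple L)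
    (𝓘 : X.IdealSheafData) (U : X.Opens) (hU : (U : Set X) = (𝓘.support : Set X)ᶜ) (r : ℕ) (hr : r + 2 ≤ n)
    (hcd : ∀ G : (U : Scheme.{u}).Modules, Coh.IsCoh G → ∀ i : ℕ, r < i →
      Subsingleton (Coh.HH (U : Scheme.{u}) G i))
    {F : X.Modules} (hF : Coh.IsCoh F) : Lef.HomToFormalBijective 𝓘 F := by
  haveI : AlgebraicGeometry.IsNoetherian X := CohFound.isNoetherian_of_isProper (X ↘ Spec (CommRingCat.of k))
  have hLi : PicF.IsInvertible L := (Amp.isAmple_iff.1 hL).1
  obtain ⟨L', hL', ⟨e⟩⟩ := M2.exists_inverse hLi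
  have htw : ∀ a l : ℕ, Lef.HomToFormalBijective 𝓘
      (CohB1.tensorMod (FlatMod.freeMod X l) (CohB1.tensorPow L' a)) := by
    intro a l
    have hLa := M2.isInvertible_tensorPow hLi a
    have hv : ∀ j, j ≤ 1 → TZ11.Van 𝓘 (CohB1.tensorPow L a) j := fun j hj =>
      van_of_cd k X hreg n hdim 𝓘 U hU r hcd _ (M2.isFinLocFree_of_isInvertible hLa) j (by omega)
    refine LefFEt11.homToFormal_of_iso (M2.freeModTensorIso X l _).symm (LefFEt11.homToFormal_coprod ?_)
    exact TZ11.homToFormal_of_van k 𝓘 hLa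
      (M2.tensorComm _ _ ≪≫ ES11.powInvIso e a) (hv 0 zero_le_one) (hv 1 le_rfl)
  obtain ⟨a, l, p, hp⟩ := ES11.exists_epi_negative (k := k) hL e hF
  haveI := hp
  have hPc : Coh.IsCoh (CohB1.tensorMod (FlatMod.freeMod X l) (CohB1.tensorPow L' a)) :=
    CohFound.isCoh_tensor (CohFound.isCoh_of_isFinLocFree (KFlat.Sch.isFinLocFree_freeMod _ l))
      (Snapper.isCoh_of_isInvertible (M2.isInvertible_tensorPow hL' a))
  obtain ⟨a', l', p', hp'⟩ := ES11.exists_epi_negative (k := k) hL e (M1.isCoh_kernel hPc hF.1 p)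
  haveI := hp'
  have w : (p' ≫ kernel.ι p) ≫ p = 0 := by rw [Category.assoc, kernel.condition, comp_zero]
  have hex : (ShortComplex.mk (p' ≫ kernel.ι p) p w).Exact := by
    let φ : ShortComplex.mk (p' ≫ kernel.ι p) p w ⟶ ShortComplex.mk (kernel.ι p) p (kernel.condition p) :=
      { τ₁ := p', τ₂ := 𝟙 _, τ₃ := 𝟙 _ }
    haveI : Epi φ.τ₁ := hp'
    haveI : IsIso φ.τ₂ := inferInstanceAs (IsIso (𝟙 _))
    haveI : Mono φ.τ₃ := inferInstanceAs (Mono (𝟙 _))
    exact (ShortComplex.exact_iff_of_epi_of_isIso_of_mono φ).2 (ShortComplex.exact_kernel p)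
  exact LefFEt11.homToFormal_of_presentation _ _ w hex (htw a' l') (htw a l)

include k in
/-- The Lefschetz condition. -/
theorem lefCond_of_cd [IsIntegral X] (hreg : ∀ x : X, IsRegularLocalRing (X.presheaf.stalk x))
    (n : ℕ) (hdim : topologicalKrullDim X = n) (L : X.Modules) (hL : CohB1.IsAmple L)
    (𝓘 : X.IdealSheafData) (U : X.Opens) (hU : (U : Set X) = (𝓘.support : Set X)ᶜ) (r : ℕ) (hr : r + 2 ≤ n)
    (hcd : ∀ G : (U : Scheme.{u}).Modules, Coh.IsCoh G → ∀ i : ℕ, r < i →
      Subsingleton (Coh.HH (U : Scheme.{u}) G i)) :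
    Lef.LefCond X 𝓘 := by
  haveI : AlgebraicGeometry.IsNoetherian X := CohFound.isNoetherian_of_isProper (X ↘ Spec (CommRingCat.of k))
  intro V hV D hD
  have hequi : ∀ Z ∈ irreducibleComponents (X : Type u), topologicalKrullDim Z = n := fun Z hZ => by
    rw [irreducibleComponents_eq_singleton] at hZ
    rw [Set.mem_singleton_iff] at hZ
    subst hZ
    exact (IsHomeomorph.topologicalKrullDim_eq _ (Homeomorph.Set.univ X).isHomeomorph).trans hdim
  have hdepth : ∀ z : X, z ∉ V → (2 : ℕ∞) ≤ LocCoh.depth (X.presheaf.stalk z) (X.presheaf.stalk z) := fun z hz => by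
    have hsd : VarDim.sdim (X ↘ Spec (CommRingCat.of k)) z ≤ r := dim_closure_le_of_cd k X U r hcd (by
      rw [hU]
      intro w hw hwI
      exact hz (((specializes_iff_mem_closure.2 hw).mem_open V.2 (hV hwI))))
    obtain ⟨b, hb⟩ := ProjDual12.exists_dim_stalk_eq (X.presheaf.stalk z)
    have hpd := ProjDual12.ringKrullDim_stalk_add_sdim_of_pure (X ↘ Spec (CommRingCat.of k)) hequi hb
    haveI := hreg z
    refine RamSam27.two_le_depth_of_regular ?_
    rw [hb]
    exact_mod_cast (show 2 ≤ b by omega)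
  have hO : Coh.IsCoh (Coh.structureModule X) :=
    Snapper.isCoh_of_isInvertible (PicLoc.isInvertible_structureModule X)
  haveI := hO.1
  have hextO : RH26.ExtU V (Coh.structureModule X) := DepthAlong11.extU_of_hasSlicePair _
    (DepthAlong11.hasSlicePair_of_depth _ hO V fun z hz => by
      rw [ES11.depth_structureModule]; exact hdepth z hz)
  have hextQ : ∀ m : ℕ, RH26.ExtU V (ClSub.quotMod (𝓘 ^ (m + 1))) := fun m => by
    have hQc : Coh.IsCoh (ClSub.quotMod (𝓘 ^ (m + 1))) := CohFound.isCoh_push_closedImm _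
      (CohFound.isCoh_of_isFinLocFree (M2.isFinLocFree_of_isInvertible (PicLoc.isInvertible_structureModule _)))
    haveI := hQc.1
    refine DepthAlong11.extU_of_hasSlicePair _ (DepthAlong11.hasSlicePair_of_depth _ hQc V fun z hz => ?_)
    rw [ES11.depth_push_stalk_notMem]
    · exact le_top
    · rw [Scheme.IdealSheafData.range_subschemeι, Scheme.IdealSheafData.support_pow_succ]
      exact fun h => hz (hV h)
  haveI : AlgebraicGeometry.IsNoetherian (V : Scheme.{u}) := LocImm12.isNoetherian_of_isOpenImmersion V.ι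
  obtain ⟨F, α, hF, hα⟩ := KCoh4.exists_ext V.ι (CohFound.isCoh_of_isFinLocFree hD)
  haveI : IsIso ((Scheme.Modules.restrictFunctor V.ι).map α) := hα
  let eD : (Scheme.Modules.restrictFunctor V.ι).obj F ≅ D :=
    asIso ((Scheme.Modules.restrictFunctor V.ι).map α) ≪≫
      asIso ((Scheme.Modules.restrictAdjunction V.ι).counit.app D)
  exact TZ11.homToFormal_restrict V hextO hextQ eD (homToFormal_of_cd k X hreg n hdim L hL 𝓘 U hU r hr hcd hF)

end Groth.Agent.CdDual8
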