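import Groth.Agent.Lib.CdDual8.Lef

/-! The Lefschetz condition on the whole scheme. -/

set_option autoImplicit false
set_option linter.style.haveILetI false
set_option linter.unusedSectionVars false
set_option backward.isDefEq.respectTransparency false
set_option backward.isDefEq.respectTransparency.types false
set_option maxHeartbeats 800000

universe u

open CategoryTheory CategoryTheory.Limits AlgebraicGeometry TopologicalSpace

noncomputable section

namespace Groth.Agent.CdDual8

theorem exists_hom_of_lefCond {X : Scheme.{u}} [AlgebraicGeometry.IsNoetherian X] {I : X.IdealSheafData}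
    (hLef : Lef.LefCond X I) {P : X.Modules} (hP : FlatMod.IsFinLocFree P)
    (y : ∀ n : ℕ, P ⟶ ClSub.quotMod (I ^ (n + 1))) (hy : Lef.IsFormalHom I P y) :
    ∃ φ : P ⟶ Coh.structureModule X, ∀ n : ℕ, φ ≫ ClSub.toSubscheme (I ^ (n + 1)) = y n := by
  let U : X.Opens := ⊤
  have hex : ∀ n : ℕ, ∃ ε : (Scheme.Modules.restrictFunctor U.ι).obj (ClSub.quotMod (I ^ (n + 1))) ≅
      ClSub.quotMod ((I.comap U.ι) ^ (n + 1)),
      (ES11.resUnit U).inv ≫ (Scheme.Modules.restrictFunctor U.ι).map (ClSub.toSubscheme (I ^ (n + 1))) ≫ ε.hom =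
        ClSub.toSubscheme ((I.comap U.ι) ^ (n + 1)) := fun n => by
    rw [← BlowUpExist.comap_pow]
    exact ES11.exists_quot_iso U _
  choose ε hε using hex
  have hτ : ∀ n : ℕ, (Scheme.Modules.restrictFunctor U.ι).map (Lef.quotMap (Lef.pow_succ_le I n)) ≫ (ε n).hom =
      (ε (n + 1)).hom ≫ Lef.quotMap (Lef.pow_succ_le (I.comap U.ι) n) := by
    intro n
    haveI := M2.epi_toSubscheme ((I.comap U.ι) ^ (n + 1 + 1))
    rw [← Iso.inv_comp_eq,
      ← cancel_epi (ClSub.toSubscheme ((I.comap U.ι) ^ (n + 1 + 1))), ES11.toSubscheme_quotMap, ← hε (n + 1),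
      ← hε n]
    simp only [Category.assoc, Iso.hom_inv_id_assoc]
    rw [← Functor.map_comp_assoc, ES11.toSubscheme_quotMap]
  have hOc : Coh.IsCoh (Coh.structureModule X) :=
    Snapper.isCoh_of_isInvertible (PicLoc.isInvertible_structureModule X)
  haveI := hOc.1
  have hQc : ∀ n, Coh.IsCoh (ClSub.quotMod (I ^ (n + 1))) := fun n => CohFound.isCoh_push_closedImm _
    (CohFound.isCoh_of_isFinLocFree (M2.isFinLocFree_of_isInvertible (PicLoc.isInvertible_structureModule _)))
  have hRO := ES11.bijective_restrict_of_extU U (DepthAlong11.extU_of_hasSlicePair _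
    (DepthAlong11.hasSlicePair_of_depth _ hOc U fun z hz => (hz trivial).elim)) P
  have hRQ := fun n => haveI := (hQc n).1; ES11.bijective_restrict_of_extU U (DepthAlong11.extU_of_hasSlicePair _
    (DepthAlong11.hasSlicePair_of_depth _ (hQc n) U fun z hz => (hz trivial).elim)) P
  let D := (Scheme.Modules.restrictFunctor U.ι).obj P
  obtain ⟨ψ, hψ⟩ := (hLef U (Set.subset_univ _) D (M2.isFinLocFree_restrict U.ι hP)).2
    (fun n => (Scheme.Modules.restrictFunctor U.ι).map (y n) ≫ (ε n).hom) fun n => by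
      rw [Category.assoc, ← hτ, ← Functor.map_comp_assoc, hy n]
  obtain ⟨φ, hφ⟩ := hRO.2 (ψ ≫ (ES11.resUnit U).inv)
  simp only at hφ
  refine ⟨φ, fun n => (hRQ n).1 ?_⟩
  simp only [Functor.map_comp, hφ]
  rw [← cancel_mono (ε n).hom, Category.assoc, Category.assoc, hε n]
  exact hψ n

end Groth.Agent.CdDual8
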