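import Groth.Agent.Lib.CdDual8.Field
import Groth.Agent.Lib.CdDual8.KillAny
import Groth.Agent.Lib.TateZero11.Lim
import Groth.Agent.Lib.BC8.CartierAdj
import Groth.Agent.Lib.Depth.CM
import Groth.Agent.Lib.ProjDual12.Trans
import Groth.Agent.Lib.CohFound.ProperFinite

/-! Small cohomological dimension of the complement kills the powers of the ideal in low degrees. -/

set_option autoImplicit false
set_option linter.style.haveILetI false
set_option linter.unusedSectionVars false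
set_option backward.isDefEq.respectTransparency false
set_option backward.isDefEq.respectTransparency.types false
set_option maxHeartbeats 1600000

universe u

open CategoryTheory CategoryTheory.Limits AlgebraicGeometry

attribute [local instance] HasDerivedCategory.standard

noncomputable section

namespace Groth.Agent.CdDual8

theorem van_of_cd (k : Type u) [Field k] (X : Scheme.{u})
    [X.Over (Spec (CommRingCat.of k))] [IsProper (X ↘ (Spec (CommRingCat.of k)))] [IsIntegral X]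
    (hreg : ∀ x : X, IsRegularLocalRing (X.presheaf.stalk x))
    (n : ℕ) (hdim : topologicalKrullDim X = n)
    (𝓘 : X.IdealSheafData) (U : X.Opens) (hU : (U : Set X) = (𝓘.support : Set X)ᶜ) (r : ℕ)
    (hcd : ∀ G : (U : Scheme.{u}).Modules, Coh.IsCoh G → ∀ i : ℕ, r < i →
      Subsingleton (Coh.HH (U : Scheme.{u}) G i))
    (F : X.Modules) (hF : FlatMod.IsFinLocFree F) (i : ℕ) (hi : i + r + 1 ≤ n) :
    TZ11.Van 𝓘 F i := by
  classical
  haveI : ∀ (U V : Scheme.{u}) (j : U ⟶ V) [IsOpenImmersion j],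
      PreservesFiniteLimits (Scheme.Modules.restrictFunctor j) := fun U V j _ => inferInstance
  haveI : ∀ (R : CommRingCat.{u}), PreservesFiniteLimits (tilde.functor R) := fun R =>
    M1.tilde_preservesFiniteLimits
  let f := X ↘ Spec (CommRingCat.of k)
  haveI : IsLocallyNoetherian X := LocallyOfFiniteType.isLocallyNoetherian f
  haveI : CompactSpace X := QuasiCompact.compactSpace_of_compactSpace f
  haveI : AlgebraicGeometry.IsNoetherian X := { }
  haveI := DBC9.hasRpush f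
  let hp := BC8.rpushPreserves f
  haveI := BC8.isLeftAdjoint_rpushQ f hp
  let adj := Adjunction.ofIsLeftAdjoint (DCoh.RpushQ f hp)
  let eW : (CdDual8.W₁ k).obj ≅ (DPerf.tildeDD (CommRingCat.of k)).obj (Dual.inD k k) := Iso.refl _
  have hK := BC8.isDualizingSch_proper (A := CommRingCat.of k) (BC8.isDualizing_self_field k) f adj eW
  have hcl := BC8.dlt_eq_zero_of_isClosed (A := CommRingCat.of k) (BC8.isDualizing_self_field k)
    (BC8.isNormalized_self_field k) f adj eW
  have hCM : ∀ y : X, LocCoh.IsCohenMacaulayLocalRing (X.presheaf.stalk y) := fun y =>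
    haveI := hreg y
    DepthLib.isCohenMacaulayLocalRing_of_isRegularLocalRing
  have hequi : ∀ Z ∈ irreducibleComponents (X : Type u), topologicalKrullDim Z = n := fun Z hZ => by
    rw [irreducibleComponents_eq_singleton] at hZ
    rw [Set.mem_singleton_iff] at hZ
    subst hZ
    exact (IsHomeomorph.topologicalKrullDim_eq _ (Homeomorph.Set.univ X).isHomeomorph).trans hdim
  have heq : ∀ y : X, IsClosed ({y} : Set X) → ringKrullDim (X.presheaf.stalk y) = n := fun y hy => by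
    obtain ⟨b, hb⟩ := ProjDual12.exists_dim_stalk_eq (X.presheaf.stalk y)
    have hpd := ProjDual12.ringKrullDim_stalk_add_sdim_of_pure f hequi hb
    rw [(VarDim.sdim_eq_zero_iff_isClosed f y).2 hy, add_zero] at hpd
    rw [hb, hpd]
  let K : DCoh.D X := ((DCoh.RpushQ f hp).rightAdjoint.obj (CdDual8.W₁ k)).obj
  have hz : ∀ t : ℤ, t ≠ -(n : ℤ) → IsZero (DCoh.HD K t) := fun t ht => BC8.isZero_HD_of_CM hK hcl n hdim hCM heq t ht
  haveI : DerivedCategory.IsGE K (-(n : ℤ)) :=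
    (DerivedCategory.isGE_iff K _).2 fun t ht => hz t (by omega)
  haveI : DerivedCategory.IsLE K (-(n : ℤ)) :=
    (DerivedCategory.isLE_iff K _).2 fun t ht => hz t (by omega)
  obtain ⟨Z, ⟨eK⟩⟩ := DerivedCategory.exists_iso_singleFunctor_obj_of_isGE_of_isLE K (-(n : ℤ))
  have hZ : Coh.IsCoh Z := CohFound.isCoh_of_iso ((DerivedCategory.homologyFunctor X.Modules (-(n : ℤ))).mapIso eK ≪≫
    (DerivedCategory.singleFunctorCompHomologyFunctorIso X.Modules (-(n : ℤ))).app Z) (BC8.isCohD_dualizing hK _)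
  have hFc : Coh.IsCoh F := CohFound.isCoh_of_isFinLocFree hF
  haveI := hFc.1
  obtain ⟨N, hN⟩ : ∃ N : ℕ, N = n - i := ⟨_, rfl⟩
  have hNn : (N : ℤ) + (i : ℤ) = (n : ℤ) := by omega
  let sh : (DerivedCategory.singleFunctor X.Modules (-(n : ℤ))).obj Z ≅ ((DCoh.inD X Z)⟦(N : ℤ)⟧)⟦(i : ℤ)⟧ :=
    (((DerivedCategory.singleFunctors X.Modules).shiftIso (n : ℤ) (-(n : ℤ)) 0 (by ring)).app Z).symm ≪≫
      (shiftFunctorAdd' (DCoh.D X) (N : ℤ) (i : ℤ) (n : ℤ) hNn).app _
  intro l
  let P := fun M => TZ11.pm 𝓘 M F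
  have hPc : ∀ M, Coh.IsCoh (P M) := fun M =>
    M1.isCoh_of_mono (Dual3.idealMulι (𝓘 ^ M) F) hFc (IdealMulL.isQCoh_idl _ _ hFc.1)
  have hinc : ∀ d : ℕ, ∃ u : P (l + d) ⟶ P l, u ≫ TZ11.pmι 𝓘 l F = TZ11.pmι 𝓘 (l + d) F := fun d =>
    IdealMulL.exists_inclusion 𝓘 (G := F) (Nat.le_add_right l d)
  choose u hu using hinc
  have key : ∀ c : (DCoh.inD X (P l))⟦(i : ℤ)⟧ ⟶ K, ∃ d : ℕ,
      ((DerivedCategory.singleFunctor X.Modules 0).map (u d))⟦(i : ℤ)⟧' ≫ c = 0 := by
    intro c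
    obtain ⟨c', hc'⟩ := (shiftFunctor (DCoh.D X) (i : ℤ)).map_surjective (c ≫ eK.hom ≫ sh.hom)
    haveI : Subsingleton (Abelian.Ext.{u} ((Scheme.Modules.restrictFunctor U.ι).obj (P l))
        ((Scheme.Modules.restrictFunctor U.ι).obj Z) N) :=
      subsingleton_ext_idl U 𝓘 hU hF hZ N l fun G hG => hcd G hG N (by omega)
    obtain ⟨M, hlM, hM⟩ := exists_deeper_comp_eq_zero 𝓘 U hU hFc hZ N l c' (map_eq_zero_of_ext U N c')
    obtain ⟨d, rfl⟩ := Nat.exists_eq_add_of_le hlM
    refine ⟨d, (cancel_mono (eK.hom ≫ sh.hom)).1 ?_⟩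
    rw [Category.assoc, ← hc', zero_comp, ← Functor.map_comp, hM (u d) (hu d), Functor.map_zero]
  -- the images form a descending chain with trivial intersection
  let W : ℕ → Submodule k (Coh.HH X (P l) i) := fun d => LinearMap.range (CurveCoh17.hmap k (u d) i)
  haveI : Module.Finite k (Coh.HH X (P l) i) := CohFound.finite_HH_of_isProper (P l) (hPc l) i
  have hmono : ∀ d d', d ≤ d' → W d' ≤ W d := by
    intro d d' hdd
    obtain ⟨e, he⟩ := IdealMulL.exists_inclusion 𝓘 (G := F) (Nat.add_le_add_left hdd l)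
    have hfac : u d' = e ≫ u d := by
      rw [← cancel_mono (TZ11.pmι 𝓘 l F), hu, Category.assoc, hu]
      exact he.symm
    rintro _ ⟨z, rfl⟩
    exact ⟨CurveCoh17.hmap k e i z, by rw [hfac, CurveCoh17.hmap_comp]⟩
  obtain ⟨d₀, hd₀⟩ := IsArtinian.monotone_stabilizes
    (⟨fun d => OrderDual.toDual (W d), fun a b hab => hmono a b hab⟩ : ℕ →o (Submodule k (Coh.HH X (P l) i))ᵒᵈ)
  have hstab : ∀ d, d₀ ≤ d → W d₀ = W d := fun d hd => hd₀ d hd
  refine ⟨l + d₀, Nat.le_add_right l d₀, fun ι hι z => ?_⟩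
  have hιu : ι = u d₀ := by rw [← cancel_mono (TZ11.pmι 𝓘 l F), hu]; exact hι
  subst hιu
  by_contra hne
  have hlift : ∀ d : ℕ, ∃ y : Coh.HH X (P (l + d)) i,
      Sheaf.H.map ((SheafOfModules.toSheaf X.ringCatSheaf).map (u d)) i y = CurveCoh17.hmap k (u d₀) i z := fun d => by
    have hmem : CurveCoh17.hmap k (u d₀) i z ∈ W (d₀ + d) := by
      rw [← hstab _ (Nat.le_add_right d₀ d)]
      exact ⟨z, rfl⟩
    exact hmono d (d₀ + d) (Nat.le_add_left d d₀) hmem
  obtain ⟨c, hc⟩ : ∃ c : (DCoh.inD X (P l))⟦(i : ℤ)⟧ ⟶ K, ∀ d : ℕ,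
      ((DerivedCategory.singleFunctor X.Modules 0).map (u d))⟦(i : ℤ)⟧' ≫ c ≠ 0 :=
    exists_class_all k X adj i (hPc l).1 u _ hlift hne
  obtain ⟨d, hd⟩ := key c
  exact hc d hd

end Groth.Agent.CdDual8
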