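import Groth.Agent.Lib.CdDual8.Pairing
import Groth.Agent.Lib.CdDual8.Van
import Groth.Agent.Lib.BC8.GorExtend
import Groth.Agent.S16185
import Groth.Agent.S0342

/-! The dualizing complex of a regular proper variety is a shifted invertible module. -/

set_option autoImplicit false
set_option linter.style.haveILetI false
set_option linter.unusedSectionVars false
set_option backward.isDefEq.respectTransparency false
set_option backward.isDefEq.respectTransparency.types false
set_option maxHeartbeats 1600000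

universe u

open CategoryTheory CategoryTheory.Limits AlgebraicGeometry

attribute [local instance] HasDerivedCategory.standard

noncomputable section

namespace Groth.Agent.CdDual8

theorem isGorensteinMor_of_regular (k : Type u) [Field k] (X : Scheme.{u}) (f : X ⟶ Spec (CommRingCat.of k))
    [Flat f] [IsLocallyNoetherian X] (hreg : ∀ x : X, IsRegularLocalRing (X.presheaf.stalk x)) :
    Dual3.IsGorensteinMor f := by
  let ρ : k →+* IsLocalRing.ResidueField k := IsLocalRing.residue k
  have hρ : Function.Bijective ρ := ⟨RingHom.injective ρ, Ideal.Quotient.mk_surjective⟩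
  let j := Spec.map (CommRingCat.ofHom ρ)
  haveI : IsIso j := by
    haveI : IsIso (CommRingCat.ofHom ρ) := (RingEquiv.ofBijective ρ hρ).toCommRingCatIso.isIso_hom
    infer_instance
  exact S16185.result f (𝟙 X) (f ≫ inv j)
    (IsPullback.of_horiz_isIso ⟨by simp [j, ρ]⟩)
    ⟨inferInstance, fun x => haveI := hreg x; S0342.result _⟩

/-- The dualizing complex is an invertible module in degree `-n`. -/
theorem exists_setting (k : Type u) [Field k] (X : Scheme.{u})
    [X.Over (Spec (CommRingCat.of k))] [IsProper (X ↘ (Spec (CommRingCat.of k)))] [IsIntegral X]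
    [DCoh.HasRpush (X ↘ Spec (CommRingCat.of k))] [PreservesFiniteLimits (tilde.functor (CommRingCat.of k))]
    (hp : DCoh.RpushPreservesQCoh (X ↘ Spec (CommRingCat.of k)))
    {a : DCoh.DQCoh (Spec (CommRingCat.of k)) ⥤ DCoh.DQCoh X}
    (adj : DCoh.RpushQ (X ↘ Spec (CommRingCat.of k)) hp ⊣ a)
    (hreg : ∀ x : X, IsRegularLocalRing (X.presheaf.stalk x))
    (n : ℕ) (hdim : topologicalKrullDim X = n) :
    ∃ Z : X.Modules, PicF.IsInvertible Z ∧
      Nonempty ((a.obj (W₁ k)).obj ≅ (DerivedCategory.singleFunctor X.Modules (-(n : ℤ))).obj Z) := by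
  classical
  haveI : ∀ (U V : Scheme.{u}) (j : U ⟶ V) [IsOpenImmersion j],
      PreservesFiniteLimits (Scheme.Modules.restrictFunctor j) := fun U V j _ => inferInstance
  haveI : ∀ (R : CommRingCat.{u}), PreservesFiniteLimits (tilde.functor R) := fun R =>
    M1.tilde_preservesFiniteLimits
  let f := X ↘ Spec (CommRingCat.of k)
  haveI : IsLocallyNoetherian X := LocallyOfFiniteType.isLocallyNoetherian f
  haveI : CompactSpace X := QuasiCompact.compactSpace_of_compactSpace f
  haveI : AlgebraicGeometry.IsNoetherian X := { }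
  let eW : (CdDual8.W₁ k).obj ≅ (DPerf.tildeDD (CommRingCat.of k)).obj (Dual.inD k k) := Iso.refl _
  have hK := BC8.isDualizingSch_proper (A := CommRingCat.of k) (BC8.isDualizing_self_field k) f adj eW
  have hcl := BC8.dlt_eq_zero_of_isClosed (A := CommRingCat.of k) (BC8.isDualizing_self_field k)
    (BC8.isNormalized_self_field k) f adj eW
  have hCM : ∀ y : X, LocCoh.IsCohenMacaulayLocalRing (X.presheaf.stalk y) := fun y =>
    haveI := hreg y
    DepthLib.isCohenMacaulayLocalRing_of_isRegularLocalRing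
  have hequi : ∀ Z ∈ irreducibleComponents (X : Type u), topologicalKrullDim Z = n := fun Z hZ => by
    rw [irreducibleComponents_eq_singleton] at hZ
    rw [Set.mem_singleton_iff] at hZ
    subst hZ
    exact (IsHomeomorph.topologicalKrullDim_eq _ (Homeomorph.Set.univ X).isHomeomorph).trans hdim
  have heq : ∀ y : X, IsClosed ({y} : Set X) → ringKrullDim (X.presheaf.stalk y) = n := fun y hy => by
    obtain ⟨b, hb⟩ := ProjDual12.exists_dim_stalk_eq (X.presheaf.stalk y)
    have hpd := ProjDual12.ringKrullDim_stalk_add_sdim_of_pure f hequi hb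
    rw [(VarDim.sdim_eq_zero_iff_isClosed f y).2 hy, add_zero] at hpd
    rw [hb, hpd]
  let K : DCoh.D X := (a.obj (CdDual8.W₁ k)).obj
  have hz : ∀ t : ℤ, t ≠ -(n : ℤ) → IsZero (DCoh.HD K t) := fun t ht => BC8.isZero_HD_of_CM hK hcl n hdim hCM heq t ht
  haveI : DerivedCategory.IsGE K (-(n : ℤ)) :=
    (DerivedCategory.isGE_iff K _).2 fun t ht => hz t (by omega)
  haveI : DerivedCategory.IsLE K (-(n : ℤ)) :=
    (DerivedCategory.isLE_iff K _).2 fun t ht => hz t (by omega)
  obtain ⟨o⟩ := BC8.nonempty_tilde_shift (CommRingCat.of k) 0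
  let eW' : (CdDual8.W₁ k).obj ≅ DCoh.inD (Spec (CommRingCat.of k)) (Coh.structureModule (Spec (CommRingCat.of k))) :=
    eW ≪≫ (DPerf.tildeDD (CommRingCat.of k)).mapIso ((shiftFunctorZero (Dual.D k) ℤ).app _).symm ≪≫ o ≪≫
      eqToIso (by rw [neg_zero])
  let eQ : BC8.oQ (Spec (CommRingCat.of k)) ≅ CdDual8.W₁ k := ObjectProperty.isoMk _ eW'.symm
  haveI : Flat f := inferInstance
  have hLS := BC8.locShift_of_gorenstein f (isGorensteinMor_of_regular k X f hreg) adj
  let eK : (a.obj (BC8.oQ (Spec (CommRingCat.of k)))).obj ≅ K := (ObjectProperty.ι _).mapIso (a.mapIso eQ)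
  obtain ⟨Z, hZ, ⟨e⟩⟩ := BC8.exists_single_of_locShift (𝟙 X) Function.surjective_id hLS (-(n : ℤ)) fun t ht =>
    (hz t ht).of_iso ((DerivedCategory.homologyFunctor X.Modules t).mapIso ((DBC9.lPId X).app _ ≪≫ eK))
  exact ⟨Z, hZ, ⟨eK.symm ≪≫ e⟩⟩

end Groth.Agent.CdDual8
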