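import Groth.Agent.Lib.CdDual8.Core
import Groth.Agent.Lib.CdDual8.LefTop
import Groth.Agent.Lib.CdDual8.Setting
import Groth.Agent.S11377
import Groth.Agent.Lib.ProjDual12.CMDuality
import Groth.Agent.Lib.CohFound.RelVan
import Groth.Agent.Lib.BC8.LichMain
import Groth.Agent.Lib.BC8.TopDual

/-! The Lefschetz condition bounds the cohomological dimension of the complement. -/

set_option autoImplicit false
set_option linter.style.haveILetI false
set_option linter.unusedSectionVars false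
set_option backward.isDefEq.respectTransparency false
set_option backward.isDefEq.respectTransparency.types false
set_option maxHeartbeats 800000

universe u

open CategoryTheory CategoryTheory.Limits AlgebraicGeometry TopologicalSpace

attribute [local instance] HasDerivedCategory.standard

noncomputable section

namespace Groth.Agent.CdDual8

variable {X : Scheme.{u}} (k : Type u) [Field k] [X.Over (Spec (CommRingCat.of k))]

theorem exists_hom_hh (G : X.Modules) (z : Coh.HH X G 0) :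
    ∃ f : Coh.structureModule X ⟶ G, BC8.extHH k X G 0 (Abelian.Ext.mk₀ f) = z := by
  obtain ⟨e, rfl⟩ := (BC8.extHH k X G 0).surjective z
  obtain ⟨f, rfl⟩ := (Abelian.Ext.mk₀_bijective _ _).2 e
  exact ⟨f, rfl⟩

theorem hmap_hom_hh {G G' : X.Modules} (φ : G ⟶ G') (f : Coh.structureModule X ⟶ G) :
    CurveCoh17.hmap k φ 0 (BC8.extHH k X G 0 (Abelian.Ext.mk₀ f)) =
      BC8.extHH k X G' 0 (Abelian.Ext.mk₀ (f ≫ φ)) := by
  rw [← Abelian.Ext.mk₀_comp_mk₀, BC8.extHH_comp]
  rfl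

/-- Compatible families of twisted sections come from sections. -/
theorem exists_section_of_lefCond [AlgebraicGeometry.IsNoetherian X] {I : X.IdealSheafData}
    (hLef : Lef.LefCond X I) {Q : X.Modules} (hQ : PicF.IsInvertible Q)
    (z : ∀ m, Coh.HH X (tSeq (I ^ (m + 1)) Q).X₃ 0)
    (hz : ∀ m, CurveCoh17.hmap k (tDown I Q (Nat.le_add_right m 1)) 0 (z (m + 1)) = z m) :
    ∃ σ : Coh.HH X Q 0, ∀ m, CurveCoh17.hmap k (tSeq (I ^ (m + 1)) Q).g 0 σ = z m := by
  choose f hf using fun m => exists_hom_hh k _ (z m)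
  have hf' : ∀ m, f (m + 1) ≫ tDown I Q (Nat.le_add_right m 1) = f m := fun m => by
    refine (Abelian.Ext.mk₀_bijective _ _).1 ((BC8.extHH k X _ 0).injective ?_)
    rw [← hmap_hom_hh, hf, hf, hz]
  obtain ⟨P, hP, ⟨e⟩⟩ := M2.exists_inverse hQ
  let e' : CohB1.tensorMod P Q ≅ Coh.structureModule X := M2.tensorComm P Q ≪≫ e
  choose h hh using fun m => ES11.tensorR_map_surjective e (A := P) (e'.hom ≫ f m)
  obtain ⟨φ, hφ⟩ := exists_hom_of_lefCond hLef (M2.isFinLocFree_of_isInvertible hP) h fun m => by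
    refine ES11.tensorR_map_injective e ?_
    rw [show M2.tensorMap (h (m + 1) ≫ Lef.quotMap (Lef.pow_succ_le I m)) (𝟙 Q) =
        M2.tensorMap (h (m + 1)) (𝟙 Q) ≫ M2.tensorMap (Lef.quotMap (Lef.pow_succ_le I m)) (𝟙 Q) by
      rw [← M2.tensorMap_comp, Category.id_comp], hh, hh, Category.assoc]
    exact congrArg _ (hf' m)
  let f₀ : Coh.structureModule X ⟶ Q :=
    e'.inv ≫ M2.tensorMap φ (𝟙 Q) ≫ (M2.tensorComm (Coh.structureModule X) Q ≪≫ M2.tensorRUnit Q).hom
  refine ⟨BC8.extHH k X Q 0 (Abelian.Ext.mk₀ f₀), fun m => ?_⟩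
  refine ((hmap_hom_hh k (tSeq (I ^ (m + 1)) Q).g f₀).trans ?_).trans (hf m)
  refine congrArg _ (congrArg _ ?_)
  show (e'.inv ≫ _ ≫ _) ≫ (_ ≫ _) = f m
  rw [Category.assoc, Category.assoc, Iso.hom_inv_id_assoc, ← M2.tensorMap_comp, Category.id_comp, hφ m, hh m,
    Iso.inv_hom_id_assoc]

variable [IsProper (X ↘ Spec (CommRingCat.of k))]

/-- Restriction to the open of the twist. -/
theorem nonempty_ihom_restrict_iso (U : X.Opens) {Z L M : X.Modules} (hZ : PicF.IsInvertible Z)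
    (hL : PicF.IsInvertible L) (e : CohB1.tensorMod L M ≅ Coh.structureModule X) :
    Nonempty ((CohMop.ihom ((Scheme.Modules.restrictFunctor U.ι).obj (CohB1.tensorMod Z L))).obj
        ((Scheme.Modules.restrictFunctor U.ι).obj Z) ≅ (Scheme.Modules.restrictFunctor U.ι).obj M) := by
  obtain ⟨Z', hZ', ⟨eZ⟩⟩ := M2.exists_inverse hZ
  let R := Scheme.Modules.pullback U.ι
  let P := CohB1.tensorMod Z' M
  let eP : CohB1.tensorMod P (CohB1.tensorMod Z L) ≅ Coh.structureModule X :=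
    M2.tensorInterchange _ _ _ _ ≪≫ M2.tensorIso (M2.tensorComm Z' Z ≪≫ eZ) (M2.tensorComm M L ≪≫ e) ≪≫
      M2.tensorLUnit _
  let eA := (Scheme.Modules.restrictFunctorIsoPullback U.ι).app (CohB1.tensorMod Z L)
  let eU : CohB1.tensorMod (R.obj P) ((Scheme.Modules.restrictFunctor U.ι).obj (CohB1.tensorMod Z L)) ≅
      Coh.structureModule (U : Scheme.{u}) :=
    M2.tensorIso (Iso.refl _) eA ≪≫ (M2.pullTensorIso U.ι _ _).symm ≪≫ R.mapIso eP ≪≫
      PicLoc.pullbackStructureIso U.ι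
  obtain ⟨η⟩ := ProjDual12.nonempty_ihom_invertible_iso
    (M2.isInvertible_of_iso eA.symm (PicLoc.isInvertible_pullback U.ι (M2.isInvertible_tensor hZ hL))) eU
    ((Scheme.Modules.restrictFunctor U.ι).obj Z)
  exact ⟨η ≪≫ M2.tensorIso ((Scheme.Modules.restrictFunctorIsoPullback U.ι).app Z) (Iso.refl _) ≪≫
    (M2.pullTensorIso U.ι _ _).symm ≪≫ R.mapIso ((M2.tensorAssoc _ _ _).symm ≪≫
      M2.tensorIso eZ (Iso.refl _) ≪≫ M2.tensorLUnit _) ≪≫
    ((Scheme.Modules.restrictFunctorIsoPullback U.ι).app M).symm⟩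

theorem subsingleton_HH_open_of_lef [IsAlgClosed k] [IsIntegral X]
    (hreg : ∀ x : X, IsRegularLocalRing (X.presheaf.stalk x))
    (N : ℕ) (hN : 1 ≤ N) (hdim : topologicalKrullDim X = ((N + 1 : ℕ) : WithBot ℕ∞))
    (L : X.Modules) (hL : CohB1.IsAmple L) (I : X.IdealSheafData) (U : X.Opens)
    (hU : (U : Set X) = (I.support : Set X)ᶜ) (hne : (U : Set X).Nonempty) (hne' : U ≠ ⊤) (hLef : Lef.LefCond X I)
    (G : (U : Scheme.{u}).Modules) (hG : Coh.IsCoh G) (i : ℕ) (hi : N ≤ i) :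
    Subsingleton (Coh.HH (U : Scheme.{u}) G i) := by
  haveI : ∀ (U V : Scheme.{u}) (j : U ⟶ V) [IsOpenImmersion j],
      PreservesFiniteLimits (Scheme.Modules.restrictFunctor j) := fun U V j _ => inferInstance
  haveI : ∀ (R : CommRingCat.{u}), PreservesFiniteLimits (tilde.functor R) := fun R =>
    M1.tilde_preservesFiniteLimits
  let f := X ↘ Spec (CommRingCat.of k)
  haveI : AlgebraicGeometry.IsNoetherian X := CohFound.isNoetherian_of_isProper f
  haveI := DBC9.hasRpush f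
  let hp := BC8.rpushPreserves f
  haveI := BC8.isLeftAdjoint_rpushQ f hp
  let adj := Adjunction.ofIsLeftAdjoint (DCoh.RpushQ f hp)
  obtain ⟨Z, hZ, ⟨eK⟩⟩ := exists_setting k X hp adj hreg (N + 1) hdim
  have hZc : Coh.IsCoh Z := Snapper.isCoh_of_isInvertible hZ
  haveI : Nonempty (U : Scheme.{u}) := hne.to_subtype
  haveI : IsIntegral (U : Scheme.{u}) := inferInstance
  haveI : AlgebraicGeometry.IsNoetherian (U : Scheme.{u}) := LocImm12.isNoetherian_of_isOpenImmersion U.ι
  letI : (U : Scheme.{u}).Over (Spec (CommRingCat.of k)) := ⟨U.ι ≫ f⟩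
  haveI : IsSeparated ((U : Scheme.{u}) ↘ Spec (CommRingCat.of k)) := inferInstanceAs (IsSeparated (U.ι ≫ f))
  haveI : LocallyOfFiniteType ((U : Scheme.{u}) ↘ Spec (CommRingCat.of k)) :=
    inferInstanceAs (LocallyOfFiniteType (U.ι ≫ f))
  haveI : QuasiCompact ((U : Scheme.{u}) ↘ Spec (CommRingCat.of k)) := inferInstanceAs (QuasiCompact (U.ι ≫ f))
  have hhigh : ∀ d : ℕ, N + 1 ≤ d → ∀ F : (U : Scheme.{u}).Modules, Coh.IsQCoh F →
      Subsingleton (Coh.HH (U : Scheme.{u}) F d) := fun d hd F hF => by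
    have hnp : ¬ IsProper (U.ι ≫ f) := fun hpr => by
      haveI := hpr
      haveI : IsProper U.ι := IsProper.of_comp U.ι f
      have hcl : IsClosed (Set.range U.ι) := U.ι.isClosedMap.isClosed_range
      rw [Scheme.Opens.range_ι] at hcl
      rcases isClopen_iff.1 (⟨hcl, U.2⟩ : IsClopen (U : Set X)) with h | h
      · exact hne.ne_empty h
      · exact hne' (SetLike.coe_injective h)
    exact BC8.subsingleton_HH_of_not_proper k _ (U.ι ≫ f) hnp d
      (le_trans U.ι.isOpenEmbedding.isEmbedding.isInducing.topologicalKrullDim_le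
        (hdim.le.trans (by exact_mod_cast hd))) F hF
  obtain ⟨M, hM, ⟨e⟩⟩ := M2.exists_inverse (Amp.isAmple_iff.1 hL).1
  have hLU : CohB1.IsAmple ((Scheme.Modules.pullback U.ι).obj L) :=
    Amp.isAmple_pullback_of_isInducing U.ι U.ι.isOpenEmbedding.isEmbedding.isInducing hL
  have hInv : ClSub.IsInverseOf ((Scheme.Modules.pullback U.ι).obj M) ((Scheme.Modules.pullback U.ι).obj L) :=
    ⟨(M2.pullTensorIso U.ι _ _).symm ≪≫ (Scheme.Modules.pullback U.ι).mapIso (M2.tensorComm M L ≪≫ e) ≪≫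
      PicLoc.pullbackStructureIso U.ι⟩
  obtain ⟨m₀, hm₀⟩ := CohFound.exists_vanishing_all f hL hZc
  have hregU : ∀ x : (U : Scheme.{u}), IsRegularLocalRing ((U : Scheme.{u}).presheaf.stalk x) := fun x =>
    haveI := hreg (U.ι x)
    IsRegularLocalRing.of_ringEquiv (asIso (U.ι.stalkMap x)).commRingCatIsoToRingEquiv
  refine Groth.Agent.S11377.result k (U : Scheme.{u}) hregU _ _ hLU hInv (N - 1) ⟨m₀, fun m hm j hj => ?_⟩ G hG i
    (by omega)
  haveI := M2.isFinLocFree_of_isInvertible (PicLoc.isInvertible_pullback U.ι hM)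
  by_cases hjN : N + 1 ≤ j
  · exact hhigh j hjN _ (CohFound.isCoh_of_isFinLocFree (M2.isFinLocFree_of_isInvertible
      (M2.isInvertible_tensorPow (PicLoc.isInvertible_pullback U.ι hM) m))).1
  have hj' : j = N := by omega
  subst hj'
  have hLm := M2.isInvertible_tensorPow (Amp.isAmple_iff.1 hL).1 m
  have hQ : PicF.IsInvertible (CohB1.tensorMod Z (CohB1.tensorPow L m)) := M2.isInvertible_tensor hZ hLm
  haveI : Subsingleton (Coh.HH X (CohB1.tensorMod Z (CohB1.tensorPow L m)) 1) :=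
    (CohFound.subsingleton_HH_iff _ _).2 (hm₀ m hm 1 Nat.one_pos)
  haveI := subsingleton_ext_of_formal k adj eK I U hU hZc hQ j (by omega)
    (exists_section_of_lefCond k hLef hQ)
  obtain ⟨E⟩ := CohMop.nonempty_ext_addEquiv_HH
    (M2.isFinLocFree_restrict U.ι (M2.isFinLocFree_of_isInvertible hQ))
    ((Scheme.Modules.restrictFunctor U.ι).obj Z) j
  obtain ⟨η⟩ := nonempty_ihom_restrict_iso U hZ hLm (ES11.powInvIso e m)
  let η' := η ≪≫ (Scheme.Modules.restrictFunctorIsoPullback U.ι).app _ ≪≫ M2.pullTensorPowIso U.ι M m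
  exact AffStratVan4.subsingleton_HH_congr η' j E.symm.toEquiv.subsingleton

end Groth.Agent.CdDual8
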