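import Groth.Agent.Lib.CdDual8.Field

/-! Maps to the dualizing complex are detected on cohomology classes. -/

set_option autoImplicit false
set_option linter.style.haveILetI false
set_option linter.unusedSectionVars false
set_option backward.isDefEq.respectTransparency false
set_option backward.isDefEq.respectTransparency.types false
set_option maxHeartbeats 1000000

universe u

open CategoryTheory CategoryTheory.Limits AlgebraicGeometry

attribute [local instance] HasDerivedCategory.standard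

noncomputable section

namespace Groth.Agent.CdDual8

variable {k : Type u} [Field k]

/-- A map to the field vanishing on all classes vanishes. -/
theorem eq_zero_of_forall_pt {M : Dual.D k} (g : M ⟶ DGen9.pt (R := k) 0)
    (h : ∀ y : DGen9.pt (R := k) 0 ⟶ M, y ≫ g = 0) : g = 0 := by
  obtain ⟨F, ⟨eF⟩⟩ : ∃ F : DRing.Cx k, Nonempty (DRing.toD F ≅ M) :=
    ⟨_, ⟨(DerivedCategory.Q (C := ModuleCat.{u} k)).objObjPreimageIso M⟩⟩
  obtain ⟨e₀⟩ := DBaseChange.nonempty_zeroD_iso F
  let G := DBaseChange.zeroD F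
  let e : DRing.toD G ≅ M := e₀ ≪≫ eF
  let α := DerivedCategory.singleFunctorIsoCompQ (ModuleCat.{u} k) 0
  let o : DGen9.pt (R := k) 0 ≅ DRing.toD (PtSky9.oneC k 0) := α.app (ModuleCat.of k k)
  obtain ⟨f, hf⟩ := DMod.exists_map_eq' (e.hom ≫ g ≫ o.hom)
  let σ := HomologicalComplex.singleObjXSelf (ComplexShape.up ℤ) 0 (ModuleCat.of k k)
  have hzero : f.f 0 ≫ σ.hom = 0 := by
    by_contra hne
    obtain ⟨x, hx⟩ : ∃ x, (f.f 0 ≫ σ.hom).hom x ≠ 0 := by
      by_contra hh
      push Not at hh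
      exact hne (ModuleCat.hom_ext (LinearMap.ext hh))
    let s : PtSky9.oneC k 0 ⟶ G :=
      HomologicalComplex.mkHomFromSingle (ModuleCat.ofHom (LinearMap.toSpanSingleton k (G.X 0) x)) fun j _ => by
        rw [DBaseChange.zeroD_d, comp_zero]
    let ρ : ModuleCat.of k k ⟶ ModuleCat.of k k :=
      ModuleCat.ofHom (LinearMap.toSpanSingleton k (G.X 0) x) ≫ f.f 0 ≫ σ.hom
    have hsf : s ≫ f = (HomologicalComplex.single (ModuleCat.{u} k) (ComplexShape.up ℤ) 0).map ρ := by
      refine HomologicalComplex.from_single_hom_ext ?_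
      simp only [HomologicalComplex.comp_f, s, HomologicalComplex.mkHomFromSingle_f, ρ,
        HomologicalComplex.single_map_f_self, Category.assoc, σ, Iso.hom_inv_id, Category.comp_id]
    have h1 : DerivedCategory.Q.map (s ≫ f) = 0 := by
      rw [Functor.map_comp, hf]
      have h2 := h (o.hom ≫ DerivedCategory.Q.map s ≫ e.hom)
      rw [← cancel_epi o.hom, comp_zero]
      simp only [Category.assoc] at h2 ⊢
      rw [reassoc_of% h2, zero_comp]
    rw [hsf] at h1
    have h3 : (DerivedCategory.singleFunctor (ModuleCat.{u} k) 0).map ρ = 0 := by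
      rw [← cancel_mono (α.hom.app _), α.hom.naturality]
      show _ ≫ DerivedCategory.Q.map _ = _
      erw [h1, comp_zero, zero_comp]
    have h4 : ρ = 0 := (DerivedCategory.singleFunctor (ModuleCat.{u} k) 0).map_injective (h3.trans (Functor.map_zero _ _ _).symm)
    exact hx (by simpa [ρ] using congrArg (fun p => p.hom (1 : k)) h4)
  have hf0 : f = 0 := HomologicalComplex.to_single_hom_ext (by
    rw [← cancel_mono σ.hom, hzero]
    simp)
  rw [hf0, Functor.map_zero] at hf
  rw [← cancel_epi e.hom, ← cancel_mono o.hom, Category.assoc, ← hf, comp_zero, zero_comp]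

variable (k) (X : Scheme.{u}) [X.Over (Spec (CommRingCat.of k))]
  [DCoh.HasRpush (X ↘ Spec (CommRingCat.of k))]
  {hp : DCoh.RpushPreservesQCoh (X ↘ Spec (CommRingCat.of k))}
  {a : DCoh.DQCoh (Spec (CommRingCat.of k)) ⥤ DCoh.DQCoh X}
  (adj : DCoh.RpushQ (X ↘ Spec (CommRingCat.of k)) hp ⊣ a)
  [PreservesFiniteLimits (tilde.functor (CommRingCat.of k))]

include adj in
/-- If the classes of `G'` all lift along `π` in `G`, and `c` kills `π`, then `c` kills `φ`. -/
theorem comp_eq_zero_of_lift (i : ℕ) {G' G T : X.Modules} (hG' : Coh.IsQCoh G') (φ : G' ⟶ G) (π : T ⟶ G)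
    (c : (DCoh.inD X G)⟦(i : ℤ)⟧ ⟶ (a.obj (W₁ k)).obj)
    (hπ : ((DerivedCategory.singleFunctor X.Modules 0).map π)⟦(i : ℤ)⟧' ≫ c = 0)
    (hlift : ∀ x : Coh.HH X G' i, ∃ y : Coh.HH X T i,
      Sheaf.H.map ((SheafOfModules.toSheaf X.ringCatSheaf).map π) i y =
        Sheaf.H.map ((SheafOfModules.toSheaf X.ringCatSheaf).map φ) i x) :
    ((DerivedCategory.singleFunctor X.Modules 0).map φ)⟦(i : ℤ)⟧' ≫ c = 0 := by
  obtain ⟨v, hv⟩ := BC8.exists_base_hom k X i
  obtain ⟨_, _⟩ := DPush.exists_commShift_isTriangulated (X ↘ Spec (CommRingCat.of k))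
  haveI : (DCoh.Rpush (X ↘ Spec (CommRingCat.of k))).Additive := inferInstance
  have hFq : DCoh.IsQCohD ((DCoh.inD X G')⟦(i : ℤ)⟧) :=
    ObjectProperty.le_shift DCoh.IsQCohD (i : ℤ) _ (BC8.isQCohD_inD' hG')
  obtain ⟨M, ⟨eM⟩⟩ := DQC.exists_iso_of_isQCohD (R := CommRingCat.of k) _ (hp _ hFq)
  let c' := ((DerivedCategory.singleFunctor X.Modules 0).map φ)⟦(i : ℤ)⟧' ≫ c
  let w := (DCoh.Rpush (X ↘ Spec (CommRingCat.of k))).map c' ≫ (adj.counit.app (W₁ k)).hom
  have hw : ∀ x, v G' x ≫ w = 0 := fun x => by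
    obtain ⟨y, hy⟩ := hlift x
    simp only [w, c', Functor.map_comp, Category.assoc]
    rw [← Category.assoc (v G' x), ← hv, ← hy, hv, Category.assoc, ← Functor.map_comp_assoc, hπ]
    simp
  obtain ⟨g, hg⟩ := (DQC.bijective_map M (DGen9.pt (R := k) 0)).2 (eM.hom ≫ w)
  simp only at hg
  have hg0 : g = 0 := eq_zero_of_forall_pt g fun y => by
    refine (DQC.bijective_map (R := CommRingCat.of k) _ _).1 ?_
    show (DPerf.tildeDD (CommRingCat.of k)).map (y ≫ g) = (DPerf.tildeDD (CommRingCat.of k)).map 0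
    rw [Functor.map_comp, hg, Functor.map_zero, ← Category.assoc,
      ← (v G').apply_symm_apply ((DPerf.tildeDD (CommRingCat.of k)).map y ≫ eM.hom)]
    exact hw _
  have hw0 : w = 0 := by
    rw [← cancel_epi eM.hom, ← hg, hg0, Functor.map_zero, comp_zero]
  let G₀ : DCoh.DQCoh X := ⟨_, hFq⟩
  have h1 : (adj.homEquiv G₀ (W₁ k)).symm (ObjectProperty.homMk c') =
      (adj.homEquiv G₀ (W₁ k)).symm (ObjectProperty.homMk 0) := by
    rw [Adjunction.homEquiv_counit, Adjunction.homEquiv_counit]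
    apply ObjectProperty.hom_ext
    show w = (DCoh.Rpush (X ↘ Spec (CommRingCat.of k))).map 0 ≫ _
    rw [hw0, Functor.map_zero, zero_comp]
  exact congrArg (fun p => p.hom) ((adj.homEquiv G₀ (W₁ k)).symm.injective h1)

include adj in
/-- Vanishing cohomology has no maps to the dualizing complex. -/
theorem hom_eq_zero_of_subsingleton (i : ℕ) {G : X.Modules} (hG : Coh.IsQCoh G) [Subsingleton (Coh.HH X G i)]
    (c : (DCoh.inD X G)⟦(i : ℤ)⟧ ⟶ (a.obj (W₁ k)).obj) : c = 0 := by
  have h := comp_eq_zero_of_lift k X adj i hG (𝟙 G) (0 : G ⟶ G) c (by simp)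
    fun x => ⟨0, by rw [Subsingleton.elim x 0, map_zero, map_zero]⟩
  simpa using h

end Groth.Agent.CdDual8
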